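import Cfsg.Agent.H63.UFour.Perm

/-!
# The subgroup `3^4 : A6` in a group with a three-local datum of type `U4(3)`
-/

set_option autoImplicit false
set_option maxRecDepth 20000

namespace H95.SuzM11

open H87.U43 H63.UFour

/-- fixed points of the translations by `d1`, `d2` -/
theorem span_fix_fin : ∀ a b c d : ZMod 3, qA ![a, b, c, d] = 0 →
    isLead ![a, b, c, d] = true →
    bA ![a, b, c, d] d1V = 0 → bA ![a, b, c, d] d2V = 0 → False := by
  decide +kernel

theorem span_fix {p : Pt} (hp : Valid p) (h1 : affAct d1V 1 p = p) (h2 : affAct d2V 1 p = p) :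
    p = .top := by
  cases p with
  | top => rfl
  | near v c =>
    obtain ⟨a, b, e, f, rfl⟩ := vec_cases v
    simp only [affAct, app_one, mkNear, if_pos hp.2, Pt.near.injEq, true_and, add_eq_left] at h1 h2
    exact (span_fix_fin a b e f hp.1 hp.2 h1 h2).elim
  | far w =>
    exfalso
    simp only [affAct, app_one, Pt.far.injEq] at h1
    have := congrFun h1 0
    simp [d1V] at this

theorem stab_d12 : ∀ i : Fin 360, app (lMat i.1) d1V = d1V → app (lMat i.1) d2V = d2V →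
    lMat i.1 = 1 ∨ lMat i.1 = zMat := by decide +kernel

theorem cover : ∀ a b c d : ZMod 3, ∃ i : Fin 360,
    app (lMat i.1) ![a, b, c, d] 2 = 0 ∧ app (lMat i.1) ![a, b, c, d] 3 = 0 := by decide +kernel

theorem from_x : ∀ a b c d : ZMod 3, qA ![a, b, c, d] = 0 → ![a, b, c, d] ≠ (0 : V4) →
    ∃ i : Fin 360, app (lMat i.1) xV = ![a, b, c, d] := by decide +kernel

theorem fix_sing : ∀ i : Fin 360, (∀ a b c d : ZMod 3, qA ![a, b, c, d] = 0 →
    app (lMat i.1) ![a, b, c, d] = ![a, b, c, d] ∨ app (lMat i.1) ![a, b, c, d] = -![a, b, c, d]) →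
    lMat i.1 = 1 := by decide +kernel

theorem siegel_fixed_fin : ∀ a b c d : ZMod 3,
    app (siegel 1 0) ![a, b, c, d] = ![a, b, c, d] → app (siegel 0 1) ![a, b, c, d] = ![a, b, c, d] →
    ∃ k : ZMod 3, ![a, b, c, d] = k • xV := by decide +kernel

theorem siegel_mul : ∀ c d c' d' : ZMod 3,
    siegel c d * siegel c' d' = siegel (c + c') (d + d') := by decide +kernel

theorem siegel_zero : siegel 0 0 = 1 := by decide +kernel

theorem span_lines : ∀ a b : ZMod 3, ![a, b, 0, 0] ≠ (0 : V4) →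
    (app sMat ![a, b, 0, 0] = ![a, b, 0, 0] ∨ app spMat ![a, b, 0, 0] = ![a, b, 0, 0]) ∨
      qA ![a, b, 0, 0] = 0 := by decide +kernel

theorem span_sing : ∀ a b : ZMod 3, qA ![a, b, 0, 0] = 0 → ![a, b, 0, 0] ≠ (0 : V4) →
    ![a, b, 0, 0] = xV ∨ ![a, b, 0, 0] = -xV ∨ ![a, b, 0, 0] = yV ∨ ![a, b, 0, 0] = -yV := by
  decide +kernel

theorem z_fix_iff (v : V4) : app zMat v = v ↔ v 2 = 0 ∧ v 3 = 0 := by
  obtain ⟨a, b, c, d, rfl⟩ := vec_cases v
  revert a b c d
  decide +kernel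

theorem card_sing : Nat.card {v : V4 // qA v = 0 ∧ v ≠ 0} = 20 := by
  rw [Nat.card_eq_fintype_card]
  decide +kernel

variable {K : Type*} [Group K] (D : Datum K)

theorem conj_tr {g : K} {v w : V4} (h : g * tr D v * g⁻¹ = tr D w) : g * tr D v = tr D w * g :=
  mul_inv_eq_iff_eq_mul.mp h

/-- An element conjugating two translations spanning `⟨d1, d2⟩` into `A` fixes the base point. -/
theorem mem_N_of_conj (hG0 : D.G0 = ⊤) {g : K} {u1 u2 : V4} (h1 : g * tr D u1 * g⁻¹ = tr D d1V)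
    (h2 : g * tr D u2 * g⁻¹ = tr D d2V) : g ∈ D.N := by
  have hg : g ∈ D.G0 := hG0 ▸ Subgroup.mem_top g
  set q := perm D ⟨g, hg⟩ vTop with hq
  have key : ∀ (u d : V4), g * tr D u * g⁻¹ = tr D d → affAct d 1 q.1 = q.1 := by
    intro u d h
    have hd : el D d 1 ∈ D.G0 := hG0 ▸ Subgroup.mem_top _
    have hu : el D u 1 ∈ D.G0 := hG0 ▸ Subgroup.mem_top _
    have e : (⟨el D d 1, hd⟩ : D.G0) * ⟨g, hg⟩ = ⟨g, hg⟩ * ⟨el D u 1, hu⟩ := by
      apply Subtype.ext
      show el D d 1 * g = g * el D u 1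
      rw [el, el, lift_one, mul_one, mul_one, conj_tr D h]
    rw [← perm_el D d inL_one hd, hq, ← Equiv.Perm.mul_apply, ← map_mul, e, map_mul,
      Equiv.Perm.mul_apply]
    congr 2
    apply Subtype.ext
    rw [perm_el D u inL_one hu]
    rfl
  exact mem_N_of_perm_top D (g := ⟨g, hg⟩)
    (Subtype.ext (span_fix q.2 (key u1 d1V h1) (key u2 d2V h2)))

/-- The centraliser of `⟨d1, d2⟩`. -/
theorem cent_span (hG0 : D.G0 = ⊤) {g : K} (h1 : Commute g (tr D d1V))
    (h2 : Commute g (tr D d2V)) : (∃ a, g = tr D a) ∨ ∃ a, g = tr D a * D.z := by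
  have c1 : g * tr D d1V * g⁻¹ = tr D d1V := by rw [h1.eq, mul_inv_cancel_right]
  have c2 : g * tr D d2V * g⁻¹ = tr D d2V := by rw [h2.eq, mul_inv_cancel_right]
  have hN := mem_N_of_conj D hG0 c1 c2
  obtain ⟨m, hm, hact⟩ := D.act g hN
  obtain ⟨i, rfl⟩ := InL_exists_idx hm
  rcases stab_d12 i (tr_inj D ((hact d1V).symm.trans c1)) (tr_inj D ((hact d2V).symm.trans c2))
    with e | e
  · left
    obtain ⟨a, ha⟩ := D.ker g hN fun v => by
      have := hact v
      rw [e, app_one] at this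
      exact mul_inv_eq_iff_eq_mul.mp this
    exact ⟨Multiplicative.toAdd a, by rw [← ha]; rfl⟩
  · right
    have hz : D.z⁻¹ = D.z := inv_eq_of_mul_eq_one_right D.z_sq
    obtain ⟨a, ha⟩ := D.ker (g * D.z) (mul_mem hN D.z_mem) fun v => by
      refine mul_inv_eq_iff_eq_mul.mp ?_
      rw [mul_inv_rev, hz]
      have := D.z_act v
      rw [hz] at this
      rw [show g * D.z * D.alpha (Multiplicative.ofAdd v) * (D.z * g⁻¹) =
        g * (D.z * D.alpha (Multiplicative.ofAdd v) * D.z) * g⁻¹ by group, this, hact, e, ← app_mul,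
        show zMat * zMat = (1 : M4) by decide +kernel, app_one]
    exact ⟨Multiplicative.toAdd a, by rw [tr, ofAdd_toAdd, ha, mul_assoc, D.z_sq, mul_one]⟩

/-- The normaliser of `A`. -/
theorem norm_A (hG0 : D.G0 = ⊤) {g : K}
    (hn : ∀ v, ∃ w, g⁻¹ * tr D v * g = tr D w) : g ∈ D.N := by
  obtain ⟨u1, e1⟩ := hn d1V
  obtain ⟨u2, e2⟩ := hn d2V
  exact mem_N_of_conj D hG0 (u1 := u1) (u2 := u2) (by rw [← e1]; group) (by rw [← e2]; group)

/-- `A` is its own centraliser. -/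
theorem cent_A (hG0 : D.G0 = ⊤) {g : K} (hc : ∀ v, Commute g (tr D v)) : ∃ a, g = tr D a := by
  rcases cent_span D hG0 (hc d1V) (hc d2V) with h | ⟨a, rfl⟩
  · exact h
  · exfalso
    have h1 : Commute D.z (tr D i1V) := by
      have := hc i1V
      have hz : Commute (tr D a) (tr D i1V) := by
        show _ * _ = _ * _
        rw [← tr_add, ← tr_add, add_comm]
      simpa using (hz.inv_left).mul_left this
    have h2 := (D.z_act i1V).symm
    change tr D _ = D.z * tr D i1V * D.z⁻¹ at h2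
    rw [h1.eq, mul_inv_cancel_right] at h2
    exact absurd (tr_inj D h2) (by decide +kernel)

theorem card_sing_trans {u v : V4} (hu : qA u = 0) (hu0 : u ≠ 0) (hv : qA v = 0) (hv0 : v ≠ 0) :
    ∃ m, InL m ∧ app m u = v := by
  obtain ⟨a, b, c, d, rfl⟩ := vec_cases u
  obtain ⟨a', b', c', d', rfl⟩ := vec_cases v
  obtain ⟨i, hi⟩ := from_x a b c d hu hu0
  obtain ⟨j, hj⟩ := from_x a' b' c' d' hv hv0
  obtain ⟨n, hn, hn1, -⟩ := InL_inv (inL_lMat i)
  exact ⟨lMat j.1 * n, InL_mul (inL_lMat j) hn, by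
    rw [app_mul, ← hi, ← app_mul n, hn1, app_one, hj]⟩

end H95.SuzM11
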