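import Cfsg.Agent.H95.SuzY.Quot
import Cfsg.Agent.H95.SuzM11.UnitaryFacts

/-!
# The elementary abelian group of order `3^5`
-/

set_option autoImplicit false
set_option maxRecDepth 10000

namespace H95.SuzM11

open H87.U43 (V4 M4 InL qA app xV yV d1V d2V i1V i2V zMat sMat spMat Datum)
open H63.UFour (tr)
open H95.SuzY
open H73.Suz (Data Acts)

universe u v

variable {G : Type u} [Group G] [Finite G] {z : G} {Q : Subgroup G} {co : G → ℕ} {y : G}

/-- the map onto a group with a three-local datum -/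
structure UData (D : YD z Q co y) (K : Type v) [Group K] where
  π : Subgroup.centralizer ({y} : Set G) →* K
  surj : Function.Surjective π
  ker : ∀ c, π c = 1 ↔ (c : G) ∈ Subgroup.zpowers y
  Da : Datum K
  top : Da.G0 = ⊤
  pz : ∀ h, π ⟨z, h⟩ = Da.z
  one : ∀ u : K, orderOf u = 2 → IsConj u Da.z

variable {K : Type v} [Group K] {D : YD z Q co y} (U : UData D K)

namespace UData

/-- `a` lies over the translation by `v` -/
def Img (a : G) (v : V4) : Prop :=
  ∃ h : a ∈ Subgroup.centralizer ({y} : Set G), U.π ⟨a, h⟩ = tr U.Da v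

theorem hyc {c : G} : c ∈ Subgroup.centralizer ({y} : Set G) ↔ Commute c y :=
  Subgroup.mem_centralizer_singleton_iff

theorem Img.comm {U : UData D K} {a : G} {v : V4} (h : U.Img a v) : Commute a y := hyc.mp h.1

theorem Img.mul {U : UData D K} {a b : G} {v w : V4} (ha : U.Img a v) (hb : U.Img b w) :
    U.Img (a * b) (v + w) := by
  obtain ⟨h1, e1⟩ := ha
  obtain ⟨h2, e2⟩ := hb
  exact ⟨mul_mem h1 h2, by
    rw [show (⟨a * b, mul_mem h1 h2⟩ : Subgroup.centralizer ({y} : Set G)) = ⟨a, h1⟩ * ⟨b, h2⟩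
      from rfl, map_mul, e1, e2, H63.UFour.tr_add]⟩

theorem Img.inv {U : UData D K} {a : G} {v : V4} (ha : U.Img a v) : U.Img a⁻¹ (-v) := by
  obtain ⟨h1, e1⟩ := ha
  exact ⟨inv_mem h1, by
    rw [show (⟨a⁻¹, inv_mem h1⟩ : Subgroup.centralizer ({y} : Set G)) = ⟨a, h1⟩⁻¹ from rfl,
      map_inv, e1, H63.UFour.tr_neg]⟩

theorem Img.unique {U : UData D K} {a : G} {v w : V4} (ha : U.Img a v) (hb : U.Img a w) :
    v = w := H63.UFour.tr_inj U.Da (ha.2.symm.trans hb.2)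

theorem img_zero {a : G} : U.Img a 0 ↔ a ∈ Subgroup.zpowers y := by
  refine ⟨fun ⟨h, e⟩ => (U.ker _).mp (by rw [e, H63.UFour.tr_zero]), fun h => ?_⟩
  obtain ⟨k, rfl⟩ := h
  have hc : y ^ k ∈ Subgroup.centralizer ({y} : Set G) := hyc.mpr ((Commute.refl y).zpow_left k)
  exact ⟨hc, by rw [(U.ker ⟨_, hc⟩).mpr ⟨k, rfl⟩, H63.UFour.tr_zero]⟩

theorem exists_img (v : V4) : ∃ a, U.Img a v := by
  obtain ⟨⟨a, ha⟩, e⟩ := U.surj (tr U.Da v)
  exact ⟨a, ha, e⟩

/-- the group of order `243` -/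
def AG : Subgroup G where
  carrier := {a | ∃ v, U.Img a v}
  one_mem' := ⟨0, U.img_zero.mpr (one_mem _)⟩
  mul_mem' := fun ⟨v, h⟩ ⟨w, h'⟩ => ⟨v + w, h.mul h'⟩
  inv_mem' := fun ⟨v, h⟩ => ⟨-v, h.inv⟩

theorem mem_AG {a : G} : a ∈ U.AG ↔ ∃ v, U.Img a v := Iff.rfl

/-- `n` induces `m` -/
def Act (n : G) (m : M4) : Prop :=
  ∃ h : n ∈ Subgroup.centralizer ({y} : Set G), U.π ⟨n, h⟩ ∈ U.Da.N ∧
    ∀ v, U.π ⟨n, h⟩ * tr U.Da v * (U.π ⟨n, h⟩)⁻¹ = tr U.Da (app m v)

theorem Act.img {U : UData D K} {n a : G} {m : M4} {v : V4} (hn : U.Act n m) (ha : U.Img a v) :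
    U.Img (n * a * n⁻¹) (app m v) := by
  obtain ⟨h, -, e⟩ := hn
  obtain ⟨h', e'⟩ := ha
  refine ⟨mul_mem (mul_mem h h') (inv_mem h), ?_⟩
  rw [show (⟨n * a * n⁻¹, mul_mem (mul_mem h h') (inv_mem h)⟩ :
    Subgroup.centralizer ({y} : Set G)) = ⟨n, h⟩ * ⟨a, h'⟩ * ⟨n, h⟩⁻¹ from rfl, map_mul, map_mul,
    map_inv, e', e]

theorem exists_act {m : M4} (hm : InL m) : ∃ n, U.Act n m := by
  obtain ⟨k, hk, e⟩ := U.Da.surj m hm
  obtain ⟨⟨n, hn⟩, rfl⟩ := U.surj k
  exact ⟨n, hn, hk, e⟩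

theorem act_z : U.Act z zMat := by
  have h : z ∈ Subgroup.centralizer ({y} : Set G) := hyc.mpr D.yz.symm
  exact ⟨h, by rw [U.pz]; exact U.Da.z_mem, fun v => by rw [U.pz]; exact U.Da.z_act v⟩

theorem comm_y {c r : G} (hc : Commute c y) (hr : r ∈ Subgroup.zpowers y) : Commute c r := by
  obtain ⟨k, rfl⟩ := hr
  exact hc.zpow_right k

/-- An involution lifting an element of order two. -/
theorem exists_invol {k : K} (hk : k * k = 1) :
    ∃ σ, ∃ h : σ ∈ Subgroup.centralizer ({y} : Set G), σ * σ = 1 ∧ U.π ⟨σ, h⟩ = k := by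
  obtain ⟨⟨n, hn⟩, e⟩ := U.surj k
  refine ⟨n ^ 3, pow_mem hn 3, ?_, ?_⟩
  · have h2 : n * n ∈ Subgroup.zpowers y := by
      refine (U.ker ⟨n * n, mul_mem hn hn⟩).mp ?_
      rw [show (⟨n * n, mul_mem hn hn⟩ : Subgroup.centralizer ({y} : Set G)) = ⟨n, hn⟩ * ⟨n, hn⟩
        from rfl, map_mul, e, hk]
    rw [← pow_add, show 3 + 3 = 2 * 3 from rfl, pow_mul, pow_two, pow_three']
    exact D.y_pow_eq_one h2
  · rw [show (⟨n ^ 3, pow_mem hn 3⟩ : Subgroup.centralizer ({y} : Set G)) = ⟨n, hn⟩ ^ 3 from rfl,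
      map_pow, e, pow_three', hk, one_mul]

/-- Elements over a vector with an eigenvalue `-1` have order three. -/
theorem cube_of_neg {n a : G} {m : M4} {v : V4} (hn : U.Act n m) (ha : U.Img a v)
    (hv : app m v = -v) (h3 : a ^ 3 ∈ Subgroup.zpowers y) : a ^ 3 = 1 := by
  have h := (hn.img ha).mul ha
  rw [hv, neg_add_cancel] at h
  have hr := U.img_zero.mp h
  have hb : n * a * n⁻¹ = n * a * n⁻¹ * a * a⁻¹ := by group
  refine D.eq_one_of_sq h3 ?_
  have e1 : n * a ^ 3 * n⁻¹ = a ^ 3 := by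
    rw [(comm_y (hyc.mp hn.1) h3).eq, mul_inv_cancel_right]
  have e2 : (n * a * n⁻¹) ^ 3 = (a ^ 3)⁻¹ := by
    rw [hb, ((comm_y (ha.comm.inv_left) hr).symm).mul_pow, pow_three', pow_three',
      D.y_pow_eq_one hr, one_mul, pow_three']
    group
  rw [conj_pow] at e2
  calc a ^ 3 * a ^ 3 = a ^ 3 * (n * a ^ 3 * n⁻¹) := by rw [e1]
    _ = 1 := by rw [e2, mul_inv_cancel]

/-- Elements over vectors with eigenvalues of opposite sign commute. -/
theorem commute_of_signs {n a b : G} {m : M4} {v w : V4} (hn : U.Act n m) (ha : U.Img a v)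
    (hb : U.Img b w) (hv : app m v = v) (hw : app m w = -w) : Commute a b := by
  have hk : a * b * a⁻¹ * b⁻¹ ∈ Subgroup.zpowers y := by
    refine U.img_zero.mp ?_
    have := ((ha.mul hb).mul ha.inv).mul hb.inv
    rwa [show v + w + -v + -w = 0 by abel] at this
  set k := a * b * a⁻¹ * b⁻¹ with hkd
  have hr := U.img_zero.mp (show U.Img (n * a * n⁻¹ * a⁻¹) 0 by
    have := (hn.img ha).mul ha.inv; rwa [hv, add_neg_cancel] at this)
  have hs := U.img_zero.mp (show U.Img (n * b * n⁻¹ * b) 0 by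
    have := (hn.img hb).mul hb; rwa [hw, neg_add_cancel] at this)
  set r := n * a * n⁻¹ * a⁻¹ with hrd
  set s := n * b * n⁻¹ * b with hsd
  have ea : n * a * n⁻¹ = r * a := by rw [hrd]; group
  have eb : n * b * n⁻¹ = s * b⁻¹ := by rw [hsd]; group
  have hcy : ∀ {c : G}, c ∈ Subgroup.zpowers y → ∀ x ∈ ({a, b} : Set G), Commute c x := by
    rintro c hc x (rfl | rfl)
    exacts [(comm_y ha.comm hc).symm, (comm_y hb.comm hc).symm]
  have hra := hcy hr a (by simp)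
  have hrb := hcy hr b (by simp)
  have hsa := hcy hs a (by simp)
  have hsb := hcy hs b (by simp)
  have hka := hcy hk a (by simp)
  have hkb := hcy hk b (by simp)
  have e1 : n * k * n⁻¹ = k := by
    rw [(comm_y (hyc.mp hn.1) hk).eq, mul_inv_cancel_right]
  have e2 : n * k * n⁻¹ = a * b⁻¹ * a⁻¹ * b := by
    calc n * k * n⁻¹ = (n * a * n⁻¹) * (n * b * n⁻¹) * (n * a * n⁻¹)⁻¹ * (n * b * n⁻¹)⁻¹ := by
          rw [hkd]; group
      _ = r * (a * s) * b⁻¹ * (a⁻¹ * r⁻¹) * (b * s⁻¹) := by rw [ea, eb]; group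
      _ = r * (s * a) * b⁻¹ * (r⁻¹ * a⁻¹) * (s⁻¹ * b) := by
          rw [hsa.eq, (hra.inv_left.inv_right).eq, (hsb.inv_left).eq]
      _ = r * s * (a * (b⁻¹ * r⁻¹)) * (a⁻¹ * s⁻¹) * b := by group
      _ = r * s * (a * (r⁻¹ * b⁻¹)) * (s⁻¹ * a⁻¹) * b := by
          rw [(hrb.inv_left.inv_right).eq, (hsa.inv_left.inv_right).eq]
      _ = r * s * ((a * r⁻¹) * (b⁻¹ * s⁻¹)) * a⁻¹ * b := by group
      _ = r * s * ((r⁻¹ * a) * (s⁻¹ * b⁻¹)) * a⁻¹ * b := by
          rw [hra.inv_left.eq, (hsb.inv_left.inv_right).eq]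
      _ = r * s * (r⁻¹ * (a * s⁻¹)) * b⁻¹ * a⁻¹ * b := by group
      _ = r * s * r⁻¹ * s⁻¹ * (a * b⁻¹ * a⁻¹ * b) := by rw [← hsa.inv_left.eq]; group
      _ = a * b⁻¹ * a⁻¹ * b := by
          rw [show r * s * r⁻¹ = s by rw [(comm_y (hyc.mp (U.img_zero.mpr hr).1) hs).eq,
            mul_inv_cancel_right], mul_inv_cancel, one_mul]
  have e3 : a * b⁻¹ * a⁻¹ * b = k⁻¹ := by
    calc a * b⁻¹ * a⁻¹ * b = b⁻¹ * k⁻¹ * b := by rw [hkd]; group
      _ = k⁻¹ := by rw [← hkb.inv_left.inv_right.eq, mul_assoc, inv_mul_cancel, mul_one]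
  have := D.eq_one_of_sq hk (by
    rw [← mul_eq_one_iff_eq_inv.mpr (e1.symm.trans (e2.trans e3))])
  show a * b = b * a
  rw [hkd, mul_inv_eq_one] at this
  exact mul_inv_eq_iff_eq_mul.mp this

theorem img_cube {a : G} {v : V4} (ha : U.Img a v) : a ^ 3 ∈ Subgroup.zpowers y := by
  refine U.img_zero.mp ?_
  have := (ha.mul ha).mul ha
  rw [← pow_three'] at this
  have e : v + v + v = 0 := by funext i; show v i + v i + v i = 0; generalize v i = t; revert t; decide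
  rwa [e] at this

theorem elementary : (∀ a ∈ U.AG, ∀ b ∈ U.AG, Commute a b) ∧ ∀ a ∈ U.AG, a ^ 3 = 1 := by
  obtain ⟨a1, h1⟩ := U.exists_img d1V
  obtain ⟨a2, h2⟩ := U.exists_img d2V
  obtain ⟨a3, h3⟩ := U.exists_img i1V
  obtain ⟨a4, h4⟩ := U.exists_img i2V
  obtain ⟨ns, hns⟩ := U.exists_act H63.UFour.inL_s
  obtain ⟨np, hnp⟩ := U.exists_act H63.UFour.inL_sp
  have hz := U.act_z
  obtain ⟨f1, f2, f3, f4, g1', g2', g3', g4', k1, k2⟩ :
      app zMat d1V = d1V ∧ app zMat d2V = d2V ∧ app zMat i1V = -i1V ∧ app zMat i2V = -i2V ∧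
      app sMat d1V = d1V ∧ app sMat d2V = -d2V ∧ app sMat i1V = i1V ∧ app sMat i2V = -i2V ∧
      app spMat d1V = -d1V ∧ app spMat d2V = d2V := by decide +kernel
  have c12 := U.commute_of_signs hns h1 h2 g1' g2'
  have c13 := U.commute_of_signs hz h1 h3 f1 f3
  have c14 := U.commute_of_signs hz h1 h4 f1 f4
  have c23 := U.commute_of_signs hz h2 h3 f2 f3
  have c24 := U.commute_of_signs hz h2 h4 f2 f4
  have c34 := U.commute_of_signs hns h3 h4 g3' g4'
  have o1 := U.cube_of_neg hnp h1 k1 (U.img_cube h1)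
  have o2 := U.cube_of_neg hns h2 g2' (U.img_cube h2)
  have o3 := U.cube_of_neg hz h3 f3 (U.img_cube h3)
  have o4 := U.cube_of_neg hz h4 f4 (U.img_cube h4)
  have key : ∀ a ∈ U.AG, ∃ r ∈ Subgroup.zpowers y, ∃ n1 n2 n3 n4 : ℕ,
      a = r * (a1 ^ n1 * a2 ^ n2 * a3 ^ n3 * a4 ^ n4) := by
    rintro a ⟨v, hv⟩
    have hp : ∀ (x : G) (w : V4), U.Img x w → ∀ n : ℕ, U.Img (x ^ n) (n • w) := by
      intro x w hx n
      induction n with
      | zero => rw [pow_zero, zero_smul]; exact U.img_zero.mpr (one_mem _)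
      | succ n ih => rw [pow_succ, succ_nsmul]; exact ih.mul hx
    have hm := (((hp a1 _ h1 (v 0).val).mul (hp a2 _ h2 (v 1).val)).mul
      (hp a3 _ h3 (v 2).val)).mul (hp a4 _ h4 (v 3).val)
    have e : ((v 0).val • d1V + (v 1).val • d2V + (v 2).val • i1V + (v 3).val • i2V : V4) = v := by
      funext i
      fin_cases i <;> simp [d1V, d2V, i1V, i2V]
    rw [e] at hm
    refine ⟨_, U.img_zero.mp (show U.Img (a * (a1 ^ (v 0).val * a2 ^ (v 1).val * a3 ^ (v 2).val *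
      a4 ^ (v 3).val)⁻¹) 0 by have := hv.mul hm.inv; rwa [add_neg_cancel] at this),
      (v 0).val, (v 1).val, (v 2).val, (v 3).val, by group⟩
  have comm4 : ∀ x ∈ ({a1, a2, a3, a4} : Set G), ∀ a ∈ U.AG, Commute x a := by
    intro x hx a ha
    obtain ⟨r, hr, n1, n2, n3, n4, rfl⟩ := key a ha
    simp only [Set.mem_insert_iff, Set.mem_singleton_iff] at hx
    have hxy : Commute x y := by
      rcases hx with rfl | rfl | rfl | rfl
      exacts [h1.comm, h2.comm, h3.comm, h4.comm]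
    have hx4 : Commute x a1 ∧ Commute x a2 ∧ Commute x a3 ∧ Commute x a4 := by
      rcases hx with rfl | rfl | rfl | rfl
      exacts [⟨Commute.refl _, c12, c13, c14⟩, ⟨c12.symm, Commute.refl _, c23, c24⟩,
        ⟨c13.symm, c23.symm, Commute.refl _, c34⟩, ⟨c14.symm, c24.symm, c34.symm, Commute.refl _⟩]
    exact (comm_y hxy hr).mul_right ((((hx4.1.pow_right n1).mul_right
      (hx4.2.1.pow_right n2)).mul_right (hx4.2.2.1.pow_right n3)).mul_right (hx4.2.2.2.pow_right n4))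
  have hyA : ∀ a ∈ U.AG, Commute y a := fun a ⟨v, hv⟩ => hv.comm.symm
  have habel : ∀ a ∈ U.AG, ∀ b ∈ U.AG, Commute a b := by
    intro a ha b hb
    obtain ⟨r, hr, n1, n2, n3, n4, rfl⟩ := key a ha
    refine ((comm_y (hyA b hb).symm hr).symm).mul_left ?_
    exact ((((comm4 a1 (by simp) b hb).pow_left n1).mul_left
      ((comm4 a2 (by simp) b hb).pow_left n2)).mul_left
      ((comm4 a3 (by simp) b hb).pow_left n3)).mul_left ((comm4 a4 (by simp) b hb).pow_left n4)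
  refine ⟨habel, fun a ha => ?_⟩
  obtain ⟨r, hr, n1, n2, n3, n4, rfl⟩ := key a ha
  have hrA : r ∈ U.AG := ⟨0, U.img_zero.mpr hr⟩
  have hm : ∀ {x : G} {w : V4}, U.Img x w → ∀ n : ℕ, x ^ n ∈ U.AG := fun hx n =>
    pow_mem (U.mem_AG.mpr ⟨_, hx⟩) n
  rw [(habel _ hrA _ (mul_mem (mul_mem (mul_mem (hm h1 n1) (hm h2 n2)) (hm h3 n3)) (hm h4 n4))).mul_pow,
    (habel _ (mul_mem (mul_mem (hm h1 n1) (hm h2 n2)) (hm h3 n3)) _ (hm h4 n4)).mul_pow,
    (habel _ (mul_mem (hm h1 n1) (hm h2 n2)) _ (hm h3 n3)).mul_pow,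
    (habel _ (hm h1 n1) _ (hm h2 n2)).mul_pow, ← pow_mul, ← pow_mul, ← pow_mul, ← pow_mul,
    mul_comm n1, mul_comm n2, mul_comm n3, mul_comm n4, pow_mul, pow_mul, pow_mul, pow_mul, o1, o2,
    o3, o4, pow_three' r, D.y_pow_eq_one hr]
  simp

theorem y_img : U.Img y 0 := U.img_zero.mpr (Subgroup.mem_zpowers y)

theorem orderOf_y (D : YD z Q co y) : orderOf y = 3 :=
  orderOf_eq_prime (by rw [pow_three', D.y3]) D.y_ne

theorem card_AG : Nat.card U.AG = 243 := by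
  classical
  choose f hf using U.exists_img
  let F : Subgroup.zpowers y × V4 → U.AG := fun p => ⟨p.1 * f p.2, p.2, by
    simpa using (U.img_zero.mpr p.1.2).mul (hf p.2)⟩
  have hF : Function.Bijective F := by
    constructor
    · rintro ⟨r, v⟩ ⟨r', v'⟩ h
      have h' : (r : G) * f v = r' * f v' := congrArg Subtype.val h
      have e : v = v' := by
        have h1 := (U.img_zero.mpr r.2).mul (hf v)
        have h2 := (U.img_zero.mpr r'.2).mul (hf v')
        rw [h'] at h1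
        simpa using h1.unique h2
      subst e
      exact Prod.ext (Subtype.ext (mul_right_cancel h')) rfl
    · rintro ⟨a, v, hv⟩
      refine ⟨(⟨a * (f v)⁻¹, U.img_zero.mp ?_⟩, v), Subtype.ext (inv_mul_cancel_right a (f v))⟩
      have := hv.mul (hf v).inv
      rwa [add_neg_cancel] at this
  rw [← Nat.card_eq_of_bijective F hF, Nat.card_prod, Nat.card_zpowers, orderOf_y D]
  simp [V4]

theorem centralizer_AG : Subgroup.centralizer (U.AG : Set G) = U.AG := by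
  refine le_antisymm (fun g hg => ?_) fun a ha b hb => (U.elementary.1 b hb a ha).eq
  have hc : ∀ a ∈ U.AG, Commute g a := fun a ha =>
    (Subgroup.mem_centralizer_iff.mp hg a ha).symm
  have hgy := hyc.mpr (hc y ⟨0, U.y_img⟩)
  obtain ⟨a, ha⟩ := cent_A U.Da U.top (g := U.π ⟨g, hgy⟩) fun v => by
    obtain ⟨b, hb⟩ := U.exists_img v
    rw [← hb.2]
    show _ * _ = _ * _
    rw [← map_mul, ← map_mul]
    exact congrArg U.π (Subtype.ext (hc b ⟨v, hb⟩).eq)
  exact ⟨a, hgy, ha⟩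

/-- the part fixed by `z` -/
def TG : Subgroup G := U.AG ⊓ Subgroup.centralizer ({z} : Set G)

theorem mem_TG {a : G} {v : V4} (ha : U.Img a v) : a ∈ U.TG ↔ v 2 = 0 ∧ v 3 = 0 := by
  rw [← z_fix_iff]
  constructor
  · intro h
    have hc : Commute a z := Subgroup.mem_centralizer_singleton_iff.mp h.2
    have := U.act_z.img ha
    rw [← hc.eq, mul_inv_cancel_right] at this
    exact this.unique ha
  · intro h
    refine ⟨⟨v, ha⟩, Subgroup.mem_centralizer_singleton_iff.mpr ?_⟩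
    have hr := U.img_zero.mp (show U.Img (z * a * z⁻¹ * a⁻¹) 0 by
      have := (U.act_z.img ha).mul ha.inv; rwa [h, add_neg_cancel] at this)
    obtain ⟨r, hrd⟩ : ∃ r, r = z * a * z⁻¹ * a⁻¹ := ⟨_, rfl⟩
    rw [← hrd] at hr
    have hra : z * a * z⁻¹ = r * a := by rw [hrd]; group
    have hz : z * r = r * z := (D.comm_zy hr).eq.symm
    have : r * r = 1 := by
      have e : z * (z * a * z⁻¹) * z⁻¹ = r * r * a := by
        calc z * (z * a * z⁻¹) * z⁻¹ = z * (r * a) * z⁻¹ := by rw [hra]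
          _ = (z * r * z⁻¹) * (z * a * z⁻¹) := by group
          _ = r * (r * a) := by rw [hz, mul_inv_cancel_right, hra]
          _ = r * r * a := (mul_assoc _ _ _).symm
      rw [show z * (z * a * z⁻¹) * z⁻¹ = (z * z) * a * (z * z)⁻¹ by group, D.H.zz] at e
      simpa using e
    have hr1 := D.eq_one_of_sq hr this
    rw [hr1, one_mul] at hra
    exact (mul_inv_eq_iff_eq_mul.mp hra).symm

theorem card_TG : Nat.card U.TG = 27 := by
  classical
  choose f hf using U.exists_img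
  let F : Subgroup.zpowers y × (ZMod 3 × ZMod 3) → U.TG := fun p =>
    ⟨p.1 * f ![p.2.1, p.2.2, 0, 0], by
      refine (U.mem_TG ((U.img_zero.mpr p.1.2).mul (hf _))).mpr ?_
      simp⟩
  have hF : Function.Bijective F := by
    constructor
    · rintro ⟨r, a, b⟩ ⟨r', a', b'⟩ h
      have h' : (r : G) * f ![a, b, 0, 0] = r' * f ![a', b', 0, 0] := congrArg Subtype.val h
      have h1 := (U.img_zero.mpr r.2).mul (hf ![a, b, 0, 0])
      have h2 := (U.img_zero.mpr r'.2).mul (hf ![a', b', 0, 0])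
      rw [h'] at h1
      have e := h1.unique h2
      rw [zero_add, zero_add] at e
      obtain rfl : a = a' := congrFun e 0
      obtain rfl : b = b' := congrFun e 1
      exact Prod.ext (Subtype.ext (mul_right_cancel h')) rfl
    · rintro ⟨a, ha⟩
      obtain ⟨v, hv⟩ := ha.1
      obtain ⟨h2, h3⟩ := (U.mem_TG hv).mp ha
      have e : v = ![v 0, v 1, 0, 0] := by funext i; fin_cases i <;> simp [h2, h3]
      refine ⟨(⟨a * (f ![v 0, v 1, 0, 0])⁻¹, U.img_zero.mp ?_⟩, v 0, v 1),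
        Subtype.ext (inv_mul_cancel_right a _)⟩
      have := hv.mul (hf ![v 0, v 1, 0, 0]).inv
      rw [← e] at this ⊢
      rwa [add_neg_cancel] at this
  rw [← Nat.card_eq_of_bijective F hF, Nat.card_prod, Nat.card_zpowers, orderOf_y D, Nat.card_prod]
  simp

theorem TG_le : U.TG ≤ C0 z y := by
  rintro a ⟨⟨v, hv⟩, hz⟩
  exact mem_C0.mpr ⟨Subgroup.mem_centralizer_singleton_iff.mp hz, hv.comm⟩

theorem y_mem_TG : y ∈ U.TG := (U.mem_TG U.y_img).mpr ⟨rfl, rfl⟩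

theorem conj_bij {g : G} {S : Subgroup G} (h : ∀ a ∈ S, g * a * g⁻¹ ∈ S) {a : G} (ha : a ∈ S) :
    ∃ b ∈ S, g * b * g⁻¹ = a := by
  let f : S → S := fun b => ⟨g * b * g⁻¹, h b b.2⟩
  have : Function.Injective f := fun b c e => Subtype.ext (by
    have := congrArg Subtype.val e; simpa [f] using this)
  obtain ⟨b, hb⟩ := Finite.surjective_of_injective this ⟨a, ha⟩
  exact ⟨b, b.2, congrArg Subtype.val hb⟩

theorem mem_normalizer_of {g : G} {S : Subgroup G} (h : ∀ a ∈ S, g * a * g⁻¹ ∈ S) :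
    g ∈ Subgroup.normalizer (S : Set G) := by
  refine Subgroup.mem_normalizer_iff.mpr fun a => ⟨h a, fun ha => ?_⟩
  obtain ⟨b, hb, e⟩ := conj_bij h ha
  have : b = a := mul_left_cancel (mul_right_cancel e)
  exact this ▸ hb

/-- Whatever normalises the fixed part of `z` normalises the whole group. -/
theorem normalizes_of_TG {g : G} (h : ∀ a ∈ U.TG, g * a * g⁻¹ ∈ U.TG) :
    g ∈ Subgroup.normalizer (U.AG : Set G) := by
  refine mem_normalizer_of fun a ha => ?_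
  have hc : ∀ t ∈ U.TG, Commute (g * a * g⁻¹) t := by
    intro t ht
    obtain ⟨s, hs, rfl⟩ := conj_bij h ht
    show _ = _
    calc g * a * g⁻¹ * (g * s * g⁻¹) = g * (a * s) * g⁻¹ := by group
      _ = g * (s * a) * g⁻¹ := by rw [(U.elementary.1 a ha s hs.1).eq]
      _ = g * s * g⁻¹ * (g * a * g⁻¹) := by group
  have hby := hyc.mpr (hc y U.y_mem_TG)
  have hd : ∀ v : V4, v 2 = 0 → v 3 = 0 → Commute (U.π ⟨g * a * g⁻¹, hby⟩) (tr U.Da v) := by
    intro v h2 h3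
    obtain ⟨t, ht⟩ := U.exists_img v
    rw [← ht.2]
    show _ * _ = _ * _
    rw [← map_mul, ← map_mul]
    exact congrArg U.π (Subtype.ext (hc t ((U.mem_TG ht).mpr ⟨h2, h3⟩)).eq)
  rcases cent_span U.Da U.top (hd d1V rfl rfl) (hd d2V rfl rfl) with ⟨w, hw⟩ | ⟨w, hw⟩
  · exact ⟨w, hby, hw⟩
  · exfalso
    have h3 : (U.π ⟨g * a * g⁻¹, hby⟩) ^ 3 = 1 := by
      rw [← map_pow, ← map_one U.π]
      refine congrArg U.π (Subtype.ext ?_)
      show (g * a * g⁻¹) ^ 3 = 1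
      rw [conj_pow, U.elementary.2 a ha, mul_one, mul_inv_cancel]
    rw [hw] at h3
    have hz : U.Da.z⁻¹ = U.Da.z := inv_eq_of_mul_eq_one_right U.Da.z_sq
    have e : tr U.Da (w + app zMat w + w) * U.Da.z = 1 := by
      rw [← h3, H63.UFour.tr_add, H63.UFour.tr_add]
      have := U.Da.z_act w
      change _ = tr U.Da _ at this
      rw [← this, hz, pow_three', tr]
      simp only [mul_assoc]
    have hzr : U.Da.z = tr U.Da (-(w + app zMat w + w)) := by
      rw [H63.UFour.tr_neg]; exact eq_inv_of_mul_eq_one_right e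
    have h2 := U.Da.z_act i1V
    change _ * tr U.Da _ * _ = tr U.Da _ at h2
    rw [hzr, ← H63.UFour.tr_add, ← H63.UFour.tr_neg, ← H63.UFour.tr_add, add_comm (-_) i1V,
      add_neg_cancel_right] at h2
    exact absurd (H63.UFour.tr_inj U.Da h2) (by decide +kernel)

end UData

end H95.SuzM11
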