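import Mathlib

/-!
# Simplicity of a group of order `7920`
-/

set_option autoImplicit false

namespace H95.SuzM11

variable {M : Type*} [Group M] [Finite M]

/-- A `P`-invariant nontrivial subgroup of small prime-power order is centralised by `P`. -/
theorem eq_bot_of_invariant (hC : ∀ g x : M, orderOf g = 11 → Commute g x → x ∈ Subgroup.zpowers g)
    {g : M} (hg : orderOf g = 11) {R : Subgroup M} (hR : ∀ r ∈ R, g * r * g⁻¹ ∈ R)
    (hcard : Nat.card R ∈ ([1, 2, 3, 4, 5, 8, 9, 16] : List ℕ)) : R = ⊥ := by
  classical
  haveI : Fintype M := Fintype.ofFinite M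
  haveI := Fact.mk (show Nat.Prime 11 by norm_num)
  have hg11 : g ^ 11 = 1 := hg ▸ pow_orderOf_eq_one g
  let f : R → R := fun r => ⟨g * r * g⁻¹, hR r r.2⟩
  have hit : ∀ (n : ℕ) (r : R), ((f^[n] r : R) : M) = g ^ n * r * (g ^ n)⁻¹ := by
    intro n
    induction n with
    | zero => intro r; simp
    | succ n ih =>
      intro r
      rw [Function.iterate_succ_apply', show ((f (f^[n] r) : R) : M) = g * (f^[n] r : R) * g⁻¹
        from rfl, ih, pow_succ']
      group
  have hf11 : f^[11] = id := funext fun r => Subtype.ext (by rw [hit, hg11]; simp)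
  let e : Equiv.Perm R := ⟨f, f^[10], fun r => by
      have := congrFun hf11 r; rwa [Function.iterate_succ_apply] at this,
    fun r => by have := congrFun hf11 r; rwa [Function.iterate_succ_apply'] at this⟩
  have hsupp : e.support.card = 0 := by
    by_cases he : e = 1
    · rw [he]; simp
    · exfalso
      have ho : orderOf e = 11 := orderOf_eq_prime (by
        ext r
        have : ((e ^ 11 : Equiv.Perm R) r) = f^[11] r := by
          rw [Equiv.Perm.coe_pow]; rfl
        rw [this, hf11]; rfl) he
      have h1 : 11 ∣ (Nat.card (Equiv.Perm R)) := ho ▸ orderOf_dvd_natCard e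
      rw [Nat.card_perm] at h1
      have h2 := (Nat.Prime.dvd_factorial (by norm_num)).mp h1
      have h3 : e.support.card ≤ Nat.card R := by
        rw [Nat.card_eq_fintype_card]; exact Finset.card_le_univ _
      simp only [List.mem_cons, List.not_mem_nil, or_false] at hcard
      rcases hcard with h | h | h | h | h | h | h | h <;> rw [h] at h2 <;> try omega
      -- sixteen elements: the fixed points form a subgroup of order five
      let F : Subgroup R :=
        { carrier := {r | f r = r}
          one_mem' := Subtype.ext (by simp [f])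
          mul_mem' := fun {a b} ha hb => Subtype.ext (by
            have ha' := congrArg Subtype.val (ha : f a = a)
            have hb' := congrArg Subtype.val (hb : f b = b)
            simp only [f] at ha' hb' ⊢
            rw [Subgroup.coe_mul, show g * ((a : M) * b) * g⁻¹ = (g * a * g⁻¹) * (g * b * g⁻¹) by
              group, ha', hb'])
          inv_mem' := fun {a} ha => Subtype.ext (by
            have ha' := congrArg Subtype.val (ha : f a = a)
            simp only [f] at ha' ⊢
            rw [Subgroup.coe_inv, show g * (a : M)⁻¹ * g⁻¹ = (g * a * g⁻¹)⁻¹ by group, ha']) }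
      have hmod : e.support.card % 11 = 0 := by
        have := Equiv.Perm.sum_cycleType e
        obtain ⟨n, hn⟩ := Equiv.Perm.cycleType_prime_order (by rw [ho]; norm_num)
        rw [hn, Multiset.sum_replicate, ho, smul_eq_mul] at this
        rw [← this]; omega
      have hpos : 0 < e.support.card := Finset.card_pos.mpr (Finset.nonempty_iff_ne_empty.mpr
        fun h => he (Equiv.Perm.support_eq_empty_iff.mp h))
      have hFc : Nat.card F = 5 := by
        have hcompl : Nat.card F = (e.supportᶜ).card := by
          rw [Nat.card_eq_fintype_card]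
          refine Fintype.card_of_subtype _ fun r => ?_
          simp only [Finset.mem_compl, Equiv.Perm.mem_support, not_not]
          exact Iff.rfl
        rw [hcompl, Finset.card_compl, ← Nat.card_eq_fintype_card, h]
        rw [h] at h3
        omega
      have := Subgroup.card_subgroup_dvd_card F
      rw [hFc, h] at this
      omega
  refine (Subgroup.eq_bot_iff_forall R).mpr fun r hr => ?_
  have he : e = 1 := Equiv.Perm.support_eq_empty_iff.mp (Finset.card_eq_zero.mp hsupp)
  have hgr : Commute g r :=
    mul_inv_eq_iff_eq_mul.mp (congrArg Subtype.val (Equiv.ext_iff.mp he ⟨r, hr⟩))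
  by_contra hne
  have ho : orderOf r = 11 := by
    have hd := orderOf_dvd_of_mem_zpowers (hC g r hg hgr)
    rw [hg] at hd
    exact ((Nat.dvd_prime (by norm_num)).mp hd).resolve_left (orderOf_eq_one_iff.not.mpr hne)
  have hd := Subgroup.orderOf_dvd_natCard R hr
  rw [ho] at hd
  simp only [List.mem_cons, List.not_mem_nil, or_false] at hcard
  omega

/-- The criterion. -/
theorem simple_7920 (hM : Nat.card M = 7920)
    (hC : ∀ g x : M, orderOf g = 11 → Commute g x → x ∈ Subgroup.zpowers g)
    (L : Subgroup M) (hL : Nat.card L = 360)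
    (hgen : ∀ K : Subgroup M, (∀ x : M, ∀ k : ℕ, k ∈ ([2, 3, 4] : List ℕ) → x ^ k ∈ K → x ∈ K) →
      L ≤ K) : IsSimpleGroup M := by
  classical
  haveI := Fact.mk (show Nat.Prime 11 by norm_num)
  haveI : Nontrivial M := Finite.one_lt_card_iff_nontrivial.mp (by omega)
  have hf : (7920 : ℕ).factorization 11 = 1 := by
    rw [show (7920 : ℕ) = 11 * 720 by norm_num, Nat.factorization_mul (by norm_num) (by norm_num),
      Finsupp.add_apply, (by norm_num : Nat.Prime 11).factorization_self,
      Nat.factorization_eq_zero_of_not_dvd (by norm_num : ¬ 11 ∣ 720)]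
  have hsyl : ∀ P : Sylow 11 M, Nat.card P = 11 := fun P => by
    rw [P.card_eq_multiplicity, hM, hf, pow_one]
  have hnum : Nat.card (Sylow 11 M) = 144 ∧
      ∀ P : Sylow 11 M, Nat.card (Subgroup.normalizer ((P : Subgroup M) : Set M)) = 55 := by
    have P0 : Sylow 11 M := Classical.arbitrary _
    suffices h : ∀ P : Sylow 11 M,
        Nat.card (Subgroup.normalizer ((P : Subgroup M) : Set M)) = 55 by
      refine ⟨?_, h⟩
      rw [Sylow.card_eq_index_normalizer P0]
      have := (Subgroup.normalizer ((P0 : Subgroup M) : Set M)).card_mul_index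
      rw [h, hM] at this
      exact Nat.eq_of_mul_eq_mul_left (by norm_num : 0 < 55) (this.trans (by norm_num))
    intro P
    obtain ⟨g, hg⟩ : ∃ g : M, g ∈ (P : Subgroup M) ∧ g ≠ 1 := by
      by_contra hcon
      push Not at hcon
      have := hsyl P
      rw [(Subgroup.eq_bot_iff_forall _).mpr hcon, Subgroup.card_bot] at this
      omega
    have hog : orderOf g = 11 := by
      have := Subgroup.orderOf_dvd_natCard _ hg.1
      rw [hsyl] at this
      exact ((Nat.dvd_prime (by norm_num)).mp this).resolve_left (orderOf_eq_one_iff.not.mpr hg.2)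
    have hP : Subgroup.zpowers g = P := Subgroup.eq_of_le_of_card_ge
      (Subgroup.zpowers_le.mpr hg.1) (by rw [hsyl, Nat.card_zpowers, hog])
    set N := Subgroup.normalizer ((P : Subgroup M) : Set M)
    have hidx : N.index % 11 = 1 := by
      have := card_sylow_modEq_one 11 M
      rw [Sylow.card_eq_index_normalizer P] at this
      exact this
    have hle : Nat.card N ≤ 110 := by
      let φ : N → (Subgroup.zpowers g : Subgroup M) := fun n => ⟨n * g * (n : M)⁻¹, by
        have := (Subgroup.mem_normalizer_iff.mp n.2 g).mp hg.1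
        rwa [← hP] at this⟩
      let ψ : N → {x : (Subgroup.zpowers g : Subgroup M) // x ≠ 1} := fun n => ⟨φ n, fun h => hg.2 (by
        have := congrArg Subtype.val h
        simpa [φ] using this)⟩
      have key : ∀ n n' : N, ψ n = ψ n' → (n' : M)⁻¹ * n ∈ Subgroup.zpowers g := fun n n' h => by
        refine hC g _ hog ?_
        have h' : (n : M) * g * (n : M)⁻¹ = n' * g * (n' : M)⁻¹ :=
          congrArg Subtype.val (congrArg Subtype.val h)
        show _ = _
        calc g * ((n' : M)⁻¹ * n) = (n' : M)⁻¹ * (n' * g * (n' : M)⁻¹) * n := by group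
          _ = (n' : M)⁻¹ * (n * g * (n : M)⁻¹) * n := by rw [h']
          _ = (n' : M)⁻¹ * n * g := by group
      have hinj : ∀ x, Nat.card {n : N // ψ n = x} ≤ 11 := by
        intro x
        rcases isEmpty_or_nonempty {n : N // ψ n = x} with hE | hE
        · simp
        obtain ⟨n', hn'⟩ := hE
        let F : {n : N // ψ n = x} → (Subgroup.zpowers g : Subgroup M) :=
          fun n => ⟨_, key n.1 n' (n.2.trans hn'.symm)⟩
        have hF : Function.Injective F := fun a b h => by
          have := congrArg Subtype.val h
          exact Subtype.ext (Subtype.ext (mul_left_cancel this))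
        have := Nat.card_le_card_of_injective F hF
        rwa [Nat.card_zpowers, hog] at this
      haveI : Fintype M := Fintype.ofFinite M
      have hsum := Nat.card_congr (Equiv.sigmaFiberEquiv ψ)
      rw [Nat.card_sigma] at hsum
      rw [← hsum]
      refine (Finset.sum_le_card_nsmul _ _ 11 fun x _ => hinj x).trans ?_
      rw [smul_eq_mul, Finset.card_univ, Fintype.card_subtype_compl, Fintype.card_subtype_eq,
        ← Nat.card_eq_fintype_card, Nat.card_zpowers, hog]
    have hdvd := N.card_mul_index
    rw [hM] at hdvd
    have h11 : 11 ∣ Nat.card N := hsyl P ▸ Subgroup.card_dvd_of_le Subgroup.le_normalizer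
    obtain ⟨k, hk⟩ := h11
    rw [hk] at hdvd hle ⊢
    have hk10 : k ≤ 10 := by omega
    interval_cases k <;> omega
  refine ⟨fun K hK => ?_⟩
  by_cases h11 : 11 ∣ Nat.card K
  · right
    obtain ⟨⟨k, hkK⟩, hk⟩ := exists_prime_orderOf_dvd_card' 11 h11
    rw [Subgroup.orderOf_mk] at hk
    have hsylK : ∀ P : Sylow 11 M, (P : Subgroup M) ≤ K := by
      intro P
      let P0 : Sylow 11 M := Sylow.ofCard (Subgroup.zpowers k)
        (by rw [Nat.card_zpowers, hk, hM, hf]; rfl)
      obtain ⟨x, hx⟩ := MulAction.exists_smul_eq M P0 P
      rw [← hx, Sylow.coe_subgroup_smul]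
      rintro _ ⟨a, ha, rfl⟩
      exact hK.conj_mem a (Subgroup.zpowers_le.mpr hkK ha) x
    have hn : ∀ P : Sylow 11 M, ∀ x : M, x • P = P ↔
        x ∈ Subgroup.normalizer ((P : Subgroup M) : Set M) := fun P x => Sylow.smul_eq_iff_mem_normalizer
    have hcardK : 144 * 11 ∣ Nat.card K := by
      haveI := Fact.mk (show Nat.Prime 11 by norm_num)
      have e : Nat.card (Sylow 11 K) = 144 := by
        rw [← hnum.1]
        refine Nat.card_congr (Equiv.ofBijective
          (fun P => (Sylow.exists_comap_subtype_eq P).choose) ⟨?_, ?_⟩)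
        · intro P P' h
          have e1 := (Sylow.exists_comap_subtype_eq P).choose_spec
          have e2 := (Sylow.exists_comap_subtype_eq P').choose_spec
          simp only at h
          rw [h] at e1
          exact Sylow.ext (e1.symm.trans e2)
        · intro P
          refine ⟨P.subtype (hsylK P), ?_⟩
          have e1 := (Sylow.exists_comap_subtype_eq (P.subtype (hsylK P))).choose_spec
          set R := (Sylow.exists_comap_subtype_eq (P.subtype (hsylK P))).choose
          refine Sylow.ext (Subgroup.eq_of_le_of_card_ge ?_ (by rw [hsyl, hsyl])).symm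
          intro a ha
          have : (⟨a, hsylK P ha⟩ : K) ∈ (R : Subgroup M).comap K.subtype := by
            rw [e1]; exact ha
          exact this
      have h144 : 144 ∣ Nat.card K := by
        have P0 : Sylow 11 K := Classical.arbitrary _
        rw [← e, Sylow.card_eq_index_normalizer P0]
        exact Subgroup.index_dvd_card _
      exact Nat.Coprime.mul_dvd_of_dvd_of_dvd (by norm_num) h144 h11
    rcases (show Nat.card K = 1584 ∨ Nat.card K = 7920 by
      have hd := Subgroup.card_subgroup_dvd_card K
      rw [hM] at hd
      obtain ⟨c, hc⟩ := hcardK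
      rw [hc] at hd ⊢
      have hc5 : c ∣ 5 := Nat.dvd_of_mul_dvd_mul_left (show 0 < 144 * 11 by norm_num) hd
      rcases (Nat.dvd_prime Nat.prime_five).mp hc5 with rfl | rfl <;> norm_num) with h | h
    · exfalso
      have hi : K.index = 5 := by
        have := K.card_mul_index; rw [h, hM] at this; omega
      have hLK : L ≤ K := hgen K fun x n hn hxn => by
        rw [← QuotientGroup.eq_one_iff] at hxn ⊢
        set q : M ⧸ K := QuotientGroup.mk x
        have h5 : q ^ 5 = 1 := by
          have : Nat.card (M ⧸ K) = 5 := hi
          exact orderOf_dvd_iff_pow_eq_one.mp (this ▸ orderOf_dvd_natCard q)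
        have hn' : q ^ n = 1 := hxn
        simp only [List.mem_cons, List.not_mem_nil, or_false] at hn
        have hg : Nat.gcd n 5 = 1 := by rcases hn with rfl | rfl | rfl <;> rfl
        have := pow_gcd_eq_one.mpr ⟨hn', h5⟩
        rwa [hg, pow_one] at this
      have := Subgroup.card_dvd_of_le hLK
      rw [hL, h] at this
      omega
    · exact Subgroup.eq_top_of_card_eq K (h.trans hM.symm)
  · left
    obtain ⟨g, hg⟩ := exists_prime_orderOf_dvd_card' (G := M) 11 (by rw [hM]; norm_num)
    have hdK := Subgroup.card_subgroup_dvd_card K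
    rw [hM] at hdK
    have hd720 : Nat.card K ∣ 720 := by
      refine Nat.Coprime.dvd_of_dvd_mul_left ?_ (show Nat.card K ∣ 11 * 720 by simpa using hdK)
      exact (((by norm_num : Nat.Prime 11).coprime_iff_not_dvd).mpr h11).symm
    by_contra hne
    have h1 : Nat.card K ≠ 1 := fun h => hne (Subgroup.card_eq_one.mp h)
    obtain ⟨r, hr, hrd⟩ := Nat.exists_prime_and_dvd h1
    haveI := Fact.mk hr
    have R0 : Sylow r K := Classical.arbitrary _
    -- an element of order 11 normalising a Sylow subgroup of `K`
    have hN := Sylow.normalizer_sup_eq_top R0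
    set R := (R0 : Subgroup K).map K.subtype with hR
    have h11N : 11 ∣ Nat.card (Subgroup.normalizer (R : Set M)) := by
      set N := Subgroup.normalizer (R : Set M)
      have e : K.relIndex N = K.index := by
        rw [← Subgroup.relIndex_sup_right (H := N) (K := K), hN, Subgroup.relIndex_top_right]
      have h2 : 11 ∣ K.index := by
        have := K.card_mul_index
        rw [hM] at this
        exact ((by norm_num : Nat.Prime 11).dvd_mul.mp (this ▸ (by norm_num : 11 ∣ 7920))).resolve_left h11
      exact (e ▸ h2).trans (Subgroup.index_dvd_card _)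
    obtain ⟨⟨g', hgN⟩, hg'⟩ := exists_prime_orderOf_dvd_card' 11 h11N
    rw [Subgroup.orderOf_mk] at hg'
    have hRcard : Nat.card R = Nat.card R0 :=
      Nat.card_congr ((R0 : Subgroup K).equivMapOfInjective _ K.subtype_injective).toEquiv.symm
    obtain ⟨n, hn⟩ := R0.isPGroup'.exists_card_eq
    have hn0 : n ≠ 0 := by
      rintro rfl
      rw [R0.card_eq_multiplicity, pow_zero, Nat.pow_eq_one] at hn
      rcases hn with h | h
      · exact absurd h hr.one_lt.ne'
      · exact absurd (hr.factorization_pos_of_dvd Nat.card_pos.ne' hrd) (by omega)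
    have hdiv : r ^ n ∣ 720 := hn ▸ (Subgroup.card_subgroup_dvd_card _).trans hd720
    have hmem : r ^ n ∈ ([1, 2, 3, 4, 5, 8, 9, 16] : List ℕ) := by
      have key : ∀ m ∈ Nat.divisors 720, IsPrimePow m →
          m ∈ ([1, 2, 3, 4, 5, 8, 9, 16] : List ℕ) := by decide +kernel
      exact key _ (Nat.mem_divisors.mpr ⟨hdiv, by norm_num⟩) (hr.isPrimePow.pow hn0)
    have hRbot : R = ⊥ := eq_bot_of_invariant hC hg'
      (fun a ha => (Subgroup.mem_normalizer_iff.mp hgN a).mp ha) (by rw [hRcard, hn]; exact hmem)
    rw [hRbot, Subgroup.card_bot] at hRcard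
    rw [← hRcard] at hn
    exact absurd hn.symm (Nat.one_lt_pow hn0 hr.one_lt).ne'

end H95.SuzM11
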