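import Cfsg.Agent.H95.SuzM11.Orbit
import Cfsg.Agent.H95.SuzM11.SimpleCrit

/-!
# The normaliser of the group of order `3^5` modulo it
-/

set_option autoImplicit false
set_option maxRecDepth 10000

namespace H95.SuzM11

open H87.U43 (V4 M4 InL qA app xV yV d1V d2V i1V i2V zMat sMat spMat tauMat Datum)
open H63.UFour (tr vec_cases)
open H95.SuzY
open H73.Suz (Data Acts)

universe u v

variable {G : Type u} [Group G] [Finite G] {z : G} {Q : Subgroup G} {co : G → ℕ}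
  {y t1 t2 a1 a2 : G} {K : Type v} [Group K] {D : YD z Q co y}

theorem g5_pow : ∀ i : Fin 5, ∃ k ∈ ([2, 3, 4] : List ℕ), H63.UFour.g5 i ^ k = 1 := by
  decide +kernel

namespace Aligned

variable {U : UData D K} (A : Aligned U t1 t2 a1 a2)

include A

omit A in
theorem norm_cent {g : G} (hg : g ∈ Subgroup.normalizer (U.AG : Set G)) (hgy : Commute g y) :
    ∃ m, InL m ∧ U.Act g m := by
  have hc := UData.hyc.mpr hgy
  have hN : U.π ⟨g, hc⟩ ∈ U.Da.N := by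
    refine norm_A U.Da U.top fun v => ?_
    obtain ⟨a, ha⟩ := U.exists_img v
    obtain ⟨w, h, e⟩ : g⁻¹ * a * g ∈ U.AG :=
      Subgroup.mem_normalizer_iff''.mp hg a |>.mp ⟨v, ha⟩
    refine ⟨w, ?_⟩
    rw [← e, ← ha.2, ← map_inv, ← map_mul, ← map_mul]
    rfl
  obtain ⟨m, hm, e⟩ := U.Da.act _ hN
  exact ⟨m, hm, hc, hN, e⟩

omit A in
theorem act_unique {g : G} {m n : M4} (h : U.Act g m) (h' : U.Act g n) : m = n :=
  H63.UFour.app_injective fun v =>
    H63.UFour.tr_inj U.Da ((h.2.2 v).symm.trans (h'.2.2 v))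

omit A in
theorem act_mul {g h : G} {m n : M4} (hg : U.Act g m) (hh : U.Act h n) :
    U.Act (g * h) (m * n) := by
  obtain ⟨h1, e1, f1⟩ := hg
  obtain ⟨h2, e2, f2⟩ := hh
  refine ⟨mul_mem h1 h2, ?_, fun v => ?_⟩
  · exact (map_mul U.π ⟨g, h1⟩ ⟨h, h2⟩).symm ▸ mul_mem e1 e2
  · rw [show (⟨g * h, mul_mem h1 h2⟩ : Subgroup.centralizer ({y} : Set G)) = ⟨g, h1⟩ * ⟨h, h2⟩
      from rfl, map_mul, mul_inv_rev]
    calc U.π ⟨g, h1⟩ * U.π ⟨h, h2⟩ * tr U.Da v * ((U.π ⟨h, h2⟩)⁻¹ * (U.π ⟨g, h1⟩)⁻¹)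
        = U.π ⟨g, h1⟩ * (U.π ⟨h, h2⟩ * tr U.Da v * (U.π ⟨h, h2⟩)⁻¹) * (U.π ⟨g, h1⟩)⁻¹ := by group
      _ = tr U.Da (app (m * n) v) := by rw [f2, f1, H63.UFour.app_mul]

omit A in
theorem act_one_iff {g : G} : U.Act g 1 ↔ g ∈ U.AG := by
  constructor
  · rintro ⟨h, hN, e⟩
    obtain ⟨a, ha⟩ := U.Da.ker _ hN fun v => mul_inv_eq_iff_eq_mul.mp (by
      have := e v; rw [H63.UFour.app_one] at this; exact this)
    exact ⟨Multiplicative.toAdd a, h, by rw [← ha]; rfl⟩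
  · rintro ⟨v, h, e⟩
    refine ⟨h, by rw [e]; exact H63.UFour.tr_mem U.Da v, fun w => ?_⟩
    rw [e, H63.UFour.app_one, ← H63.UFour.tr_add, ← H63.UFour.tr_neg, ← H63.UFour.tr_add]
    congr 1
    abel

omit A in
theorem os_conj {g a : G} (hg : g ∈ Subgroup.normalizer (U.AG : Set G)) (ha : a ∈ OS U) :
    g * a * g⁻¹ ∈ OS U :=
  ⟨(Subgroup.mem_normalizer_iff.mp hg a).mp ha.1, conj_step ha.2⟩

/-- An element fixing all conjugates lies in the group. -/
theorem mem_of_fix {g : G} (hg : g ∈ Subgroup.normalizer (U.AG : Set G))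
    (hfix : ∀ a ∈ OS U, Commute g a) : g ∈ U.AG := by
  obtain ⟨m, hm, hact⟩ := norm_cent hg (hfix y A.y_os)
  suffices m = 1 by exact act_one_iff.mp (this ▸ hact)
  obtain ⟨i, rfl⟩ := H63.UFour.InL_exists_idx hm
  refine fix_sing i fun a b c d hq => ?_
  by_cases h0 : ![a, b, c, d] = (0 : V4)
  · left; rw [h0, H63.UFour.app_zero]
  · obtain ⟨n, m', -, hOS, himg⟩ := A.os_exists hq h0
    left
    have := hact.img himg
    rw [(hfix _ hOS).eq, mul_inv_cancel_right] at this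
    exact this.unique himg

omit A in
theorem conj_pow_comm {g x : G} (h : Commute g x) (a : G) :
    x * (g * a * g⁻¹) * x⁻¹ = g * (x * a * x⁻¹) * g⁻¹ := by
  rw [show x * (g * a * g⁻¹) * x⁻¹ = (x * g) * a * (x * g)⁻¹ by group, ← h.eq]
  group

/-- No element of the normaliser inverts all the conjugates. -/
theorem no_invert_all {x : G} (hx : x ∈ Subgroup.normalizer (U.AG : Set G))
    (hinv : ∀ a ∈ OS U, x * a * x⁻¹ = a⁻¹) : False := by
  have hzN : z ∈ Subgroup.normalizer (U.AG : Set G) := act_norm U.act_z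
  have hw : x * z * x⁻¹ * z⁻¹ ∈ U.AG := by
    refine A.mem_of_fix (mul_mem (mul_mem (mul_mem hx hzN) (inv_mem hx)) (inv_mem hzN)) ?_
    intro a ha
    have hb : z⁻¹ * a * z ∈ OS U := by
      simpa using os_conj (inv_mem hzN) ha
    have e1 : x⁻¹ * (z⁻¹ * a * z) * x = (z⁻¹ * a * z)⁻¹ := by
      have := hinv _ hb
      calc x⁻¹ * (z⁻¹ * a * z) * x = (x⁻¹ * ((z⁻¹ * a * z)⁻¹) * x)⁻¹ := by group
        _ = (x⁻¹ * (x * (z⁻¹ * a * z) * x⁻¹) * x)⁻¹ := by rw [this]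
        _ = (z⁻¹ * a * z)⁻¹ := by group
    show _ = _
    refine mul_inv_eq_iff_eq_mul.mp ?_
    calc x * z * x⁻¹ * z⁻¹ * a * (x * z * x⁻¹ * z⁻¹)⁻¹
        = x * z * (x⁻¹ * (z⁻¹ * a * z) * x) * z⁻¹ * x⁻¹ := by group
      _ = x * a⁻¹ * x⁻¹ := by rw [e1]; group
      _ = (x * a * x⁻¹)⁻¹ := by group
      _ = a := by rw [hinv a ha, inv_inv]
  obtain ⟨w, hwd⟩ : ∃ w, w = x * z * x⁻¹ * z⁻¹ := ⟨_, rfl⟩
  rw [← hwd] at hw
  have hzx : x * z * x⁻¹ = w * z := by rw [hwd]; group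
  have hw3 : w ^ 3 = 1 := U.elementary.2 w hw
  have hzwz : z * w * z = w⁻¹ := by
    have : (w * z) * (w * z) = 1 := by
      rw [← hzx, show x * z * x⁻¹ * (x * z * x⁻¹) = x * (z * z) * x⁻¹ by group, D.H.zz]; group
    exact eq_inv_of_mul_eq_one_right (by rw [← this]; group)
  have hb : w * w * z * (w * w)⁻¹ = w * z := by
    have e' : z * w⁻¹ * z = w := by
      conv_rhs => rw [← inv_inv w, ← hzwz]
      rw [mul_inv_rev, mul_inv_rev, D.H.z_inv, mul_assoc]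
    have e'' : z * w⁻¹ = w * z := by
      conv_rhs => rw [← e', mul_assoc _ z z, D.H.zz, mul_one]
    calc w * w * z * (w * w)⁻¹ = w * w * (z * w⁻¹) * w⁻¹ := by group
      _ = w * w * w * (z * w⁻¹) := by rw [e'']; simp only [mul_assoc]; rw [e'']
      _ = w * w * w * (w * z) := by rw [e'']
      _ = w * z := by rw [← pow_three', hw3, one_mul]
  obtain ⟨u, hud⟩ : ∃ u, u = w * w := ⟨_, rfl⟩
  rw [← hud] at hb
  have hwA : u ∈ U.AG := hud ▸ mul_mem hw hw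
  set x' := u⁻¹ * x with hx'
  have hx'N : x' ∈ Subgroup.normalizer (U.AG : Set G) :=
    mul_mem (inv_mem (Subgroup.le_normalizer hwA)) hx
  have hx'z : Commute x' z := by
    show _ = _
    refine mul_inv_eq_iff_eq_mul.mp ?_
    calc x' * z * x'⁻¹ = u⁻¹ * (x * z * x⁻¹) * u := by rw [hx']; group
      _ = u⁻¹ * (u * z * u⁻¹) * u := by rw [hzx, hb]
      _ = z := by group
  have hx'inv : ∀ a ∈ OS U, x' * a * x'⁻¹ = a⁻¹ := by
    intro a ha
    calc x' * a * x'⁻¹ = u⁻¹ * (x * a * x⁻¹) * u := by rw [hx']; group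
      _ = u⁻¹ * (a⁻¹ * u) := by rw [hinv a ha, mul_assoc]
      _ = a⁻¹ := by
        rw [(U.elementary.1 _ (inv_mem ha.1) _ hwA).eq, inv_mul_cancel_left]
  have hsq : x' * x' ∈ U.AG := A.mem_of_fix (mul_mem hx'N hx'N) fun a ha => by
    show _ = _
    refine mul_inv_eq_iff_eq_mul.mp ?_
    calc x' * x' * a * (x' * x')⁻¹ = x' * (x' * a * x'⁻¹) * x'⁻¹ := by group
      _ = x' * a⁻¹ * x'⁻¹ := by rw [hx'inv a ha]
      _ = (x' * a * x'⁻¹)⁻¹ := by group
      _ = a := by rw [hx'inv a ha, inv_inv]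
  have h6 : x' ^ 3 * x' ^ 3 = 1 := by
    rw [← pow_add, show 3 + 3 = 2 * 3 from rfl, pow_mul, pow_two]; exact U.elementary.2 _ hsq
  have h3 : ∀ a ∈ OS U, x' ^ 3 * a * (x' ^ 3)⁻¹ = a⁻¹ := fun a ha => by
    calc x' ^ 3 * a * (x' ^ 3)⁻¹ = (x' * x') * (x' * a * x'⁻¹) * (x' * x')⁻¹ := by
          rw [pow_three']; group
      _ = a⁻¹ := by
        rw [hx'inv a ha, (U.elementary.1 _ hsq _ (inv_mem ha.1)).eq, mul_inv_cancel_right]
  obtain ⟨g2, -, hg2⟩ := A.move_six (a := t2) (by simp)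
  exact no_inverter D A.gens (hx'z.pow_left 3) h6 (h3 y A.y_os) (h3 t1 A.t1_os)
    (h3 t2 ⟨A.in2, isConj_iff.mpr ⟨g2, hg2⟩⟩)

omit A in
/-- the stabiliser of `y` -/
def SG (U : UData D K) : Subgroup G :=
  Subgroup.normalizer (U.AG : Set G) ⊓ Subgroup.centralizer ({y} : Set G)

omit A in
theorem mem_SG {g : G} : g ∈ SG U ↔ ∃ m, InL m ∧ U.Act g m := by
  refine ⟨fun h => norm_cent h.1 (UData.hyc.mp h.2), fun ⟨m, _, h⟩ => ⟨act_norm h, h.1⟩⟩

omit A in
theorem card_SG : Nat.card (SG U) = 87480 := by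
  classical
  have hlift : ∀ k : U.Da.N, ∃ g, ∃ h : g ∈ Subgroup.centralizer ({y} : Set G),
      U.π ⟨g, h⟩ = k := fun k => by
    obtain ⟨⟨g, h⟩, e⟩ := U.surj k.1
    exact ⟨g, h, e⟩
  choose f hf hfe using hlift
  have hin : ∀ k, f k ∈ SG U := fun k => by
    obtain ⟨m, hm, e⟩ := U.Da.act k.1 k.2
    exact mem_SG.mpr ⟨m, hm, hf k, by rw [hfe]; exact k.2, by rw [hfe]; exact e⟩
  have hyS : ∀ r ∈ Subgroup.zpowers y, r ∈ SG U := fun r hr =>
    mem_SG.mpr ⟨1, H63.UFour.inL_one, act_one_iff.mpr ⟨0, U.img_zero.mpr hr⟩⟩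
  let F : Subgroup.zpowers y × U.Da.N → SG U := fun p =>
    ⟨p.1 * f p.2, mul_mem (hyS _ p.1.2) (hin _)⟩
  have hπ : ∀ (r : Subgroup.zpowers y) (k : U.Da.N) (h : (r : G) * f k ∈ _),
      U.π ⟨(r : G) * f k, h⟩ = k := fun r k h => by
    have hr : (r : G) ∈ Subgroup.centralizer ({y} : Set G) := (U.img_zero.mpr r.2).1
    rw [show (⟨(r : G) * f k, h⟩ : Subgroup.centralizer ({y} : Set G)) = ⟨r, hr⟩ * ⟨f k, hf k⟩
      from rfl, map_mul, hfe, (U.ker ⟨r, hr⟩).mpr r.2, one_mul]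
  have hF : Function.Bijective F := by
    constructor
    · rintro ⟨r, k⟩ ⟨r', k'⟩ h
      have h' : (r : G) * f k = r' * f k' := congrArg Subtype.val h
      have e : k = k' := Subtype.ext (by
        rw [← hπ r k (F (r, k)).2.2, ← hπ r' k' (F (r', k')).2.2]
        exact congrArg U.π (Subtype.ext h'))
      subst e
      exact Prod.ext (Subtype.ext (mul_right_cancel h')) rfl
    · rintro ⟨g, hg⟩
      obtain ⟨m, -, h, hN, -⟩ := mem_SG.mp hg
      refine ⟨(⟨g * (f ⟨_, hN⟩)⁻¹, ?_⟩, ⟨_, hN⟩), Subtype.ext (inv_mul_cancel_right g _)⟩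
      refine (U.ker ⟨_, mul_mem h (inv_mem (hf _))⟩).mp ?_
      rw [show (⟨g * (f ⟨_, hN⟩)⁻¹, mul_mem h (inv_mem (hf _))⟩ :
        Subgroup.centralizer ({y} : Set G)) = ⟨g, h⟩ * ⟨f ⟨_, hN⟩, hf _⟩⁻¹ from rfl,
        map_mul, map_inv, hfe, mul_inv_cancel]
  rw [← Nat.card_eq_of_bijective F hF, Nat.card_prod, Nat.card_zpowers, UData.orderOf_y D,
    H63.UFour.card_N]

theorem card_NA : Nat.card (Subgroup.normalizer (U.AG : Set G)) = 243 * 7920 := by
  classical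
  have h : ∀ a : OS U, ∃ g, g ∈ Subgroup.normalizer (U.AG : Set G) ∧ g * y * g⁻¹ = a.1 := fun a =>
    A.move_os a.2
  choose f hf hfe using h
  let F : OS U × SG U → Subgroup.normalizer (U.AG : Set G) := fun p =>
    ⟨f p.1 * p.2, mul_mem (hf _) p.2.2.1⟩
  have hfix : ∀ (a : OS U) (s : SG U), f a * s * y * (f a * s)⁻¹ = a.1 := fun a s => by
    rw [show f a * s * y * (f a * s)⁻¹ = f a * ((s : G) * y * (s : G)⁻¹) * (f a)⁻¹ by group,
      (UData.hyc.mp s.2.2).eq, mul_inv_cancel_right, hfe]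
  have hF : Function.Bijective F := by
    constructor
    · rintro ⟨a, s⟩ ⟨b, t⟩ h
      have h' : f a * (s : G) = f b * t := congrArg Subtype.val h
      have e : a = b := Subtype.ext (by rw [← hfix a s, ← hfix b t, h'])
      subst e
      exact Prod.ext rfl (Subtype.ext (mul_left_cancel h'))
    · rintro ⟨g, hg⟩
      let a : OS U := ⟨g * y * g⁻¹, os_conj hg A.y_os⟩
      refine ⟨(a, ⟨(f a)⁻¹ * g, Subgroup.mul_mem _ (Subgroup.inv_mem _ (hf a)) hg, ?_⟩),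
        Subtype.ext (mul_inv_cancel_left _ g)⟩
      refine UData.hyc.mpr ?_
      show _ = _
      have := hfe a
      calc (f a)⁻¹ * g * y = (f a)⁻¹ * (g * y * g⁻¹) * g := by group
        _ = y * ((f a)⁻¹ * g) := by rw [show g * y * g⁻¹ = f a * y * (f a)⁻¹ from this.symm]; group
  rw [← Nat.card_eq_of_bijective F hF, Nat.card_prod, A.card_OS, card_SG]

omit A in
instance normal_AG : (U.AG.subgroupOf (Subgroup.normalizer (U.AG : Set G))).Normal :=
  Subgroup.normal_in_normalizer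

omit A in
/-- the quotient -/
abbrev MQ (U : UData D K) :=
  Subgroup.normalizer (U.AG : Set G) ⧸ U.AG.subgroupOf (Subgroup.normalizer (U.AG : Set G))

theorem card_MQ : Nat.card (MQ U) = 7920 := by
  have := Subgroup.card_eq_card_quotient_mul_card_subgroup
    (U.AG.subgroupOf (Subgroup.normalizer (U.AG : Set G)))
  rw [A.card_NA, Nat.card_congr (Subgroup.subgroupOfEquivOfLe Subgroup.le_normalizer).toEquiv,
    U.card_AG] at this
  exact (Nat.eq_of_mul_eq_mul_right (by norm_num : 0 < 243) ((mul_comm _ _).trans this)).symm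

theorem cent_eleven : ∀ g x : MQ U, orderOf g = 11 → Commute g x → x ∈ Subgroup.zpowers g := by
  classical
  set NA := Subgroup.normalizer (U.AG : Set G) with hNA
  intro g x hg hgx
  obtain ⟨⟨g, hgN⟩, rfl⟩ := QuotientGroup.mk_surjective g
  obtain ⟨⟨x, hxN⟩, rfl⟩ := QuotientGroup.mk_surjective x
  have hmk : ∀ (h : G) (hh : h ∈ NA),
      ((⟨h, hh⟩ : NA) : MQ U) = 1 ↔ h ∈ U.AG := fun h hh => QuotientGroup.eq_one_iff _
  -- elements equal modulo the group act equally on it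
  have hsame : ∀ {p q : G} {hp : p ∈ NA} {hq : q ∈ NA},
      ((⟨p, hp⟩ : NA) : MQ U) = (⟨q, hq⟩ : NA) → ∀ a ∈ U.AG, p * a * p⁻¹ = q * a * q⁻¹ := by
    intro p q hp hq e a ha
    have hm : p⁻¹ * q ∈ U.AG :=
      (QuotientGroup.eq (a := (⟨p, hp⟩ : NA)) (b := ⟨q, hq⟩)).mp e
    have hc := U.elementary.1 _ hm a ha
    calc p * a * p⁻¹ = p * (((p⁻¹ * q) * a) * (p⁻¹ * q)⁻¹) * p⁻¹ := by
          rw [hc.eq, mul_inv_cancel_right]
      _ = q * a * q⁻¹ := by group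
  have hpow : ∀ (k : ℕ) (h : G) (hh : h ∈ NA),
      ((⟨h ^ k, pow_mem hh k⟩ : NA) : MQ U) = ((⟨h, hh⟩ : NA) : MQ U) ^ k := fun k h hh => rfl
  -- no power of g short of the eleventh fixes or inverts y
  have hy1 : ∀ k : ℕ, ¬ 11 ∣ k → g ^ k * y * (g ^ k)⁻¹ ≠ y := by
    intro k hk e
    have hgk : g ^ k ∈ SG U := ⟨pow_mem hgN k, UData.hyc.mpr (mul_inv_eq_iff_eq_mul.mp e)⟩
    set q := ((⟨g ^ k, pow_mem hgN k⟩ : NA) : MQ U)
    have hq : orderOf q = 11 := by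
      show orderOf ((⟨g ^ k, pow_mem hgN k⟩ : NA) : MQ U) = 11
      rw [hpow k g hgN, Nat.Coprime.orderOf_pow, hg]
      rw [hg]; exact ((by norm_num : Nat.Prime 11).coprime_iff_not_dvd).mpr hk
    have h1 : g ^ k ^ 1 = g ^ k := by rw [pow_one]
    have hd : orderOf q ∣ orderOf (g ^ k) := by
      have := orderOf_map_dvd (QuotientGroup.mk' (U.AG.subgroupOf NA)) (⟨g ^ k, pow_mem hgN k⟩ : NA)
      rwa [Subgroup.orderOf_mk] at this
    have := hd.trans (Subgroup.orderOf_dvd_natCard _ hgk)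
    rw [hq, card_SG] at this
    norm_num at this
  have hy2 : ∀ k : ℕ, g ^ k * y * (g ^ k)⁻¹ ≠ y⁻¹ := by
    intro k e
    have e2 : g ^ (k + k) * y * (g ^ (k + k))⁻¹ = y := by
      rw [pow_add, show g ^ k * g ^ k * y * (g ^ k * g ^ k)⁻¹ = g ^ k * (g ^ k * y * (g ^ k)⁻¹) *
        (g ^ k)⁻¹ by group, e, show g ^ k * y⁻¹ * (g ^ k)⁻¹ = (g ^ k * y * (g ^ k)⁻¹)⁻¹ by group, e,
        inv_inv]
    by_cases hk : 11 ∣ k
    · have h1 : ((⟨g ^ k, pow_mem hgN k⟩ : NA) : MQ U) = 1 := by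
        rw [hpow k g hgN, ← orderOf_dvd_iff_pow_eq_one, hg]; exact hk
      have hm := (hmk _ _).mp h1
      rw [(U.elementary.1 _ hm _ A.y_os.1).eq, mul_inv_cancel_right] at e
      exact D.y_ne (D.eq_one_of_sq (Subgroup.mem_zpowers y)
        (by nth_rewrite 2 [e]; exact mul_inv_cancel y))
    · exact hy1 (k + k) (fun h => hk (by omega)) e2
  -- the orbit
  let E : Bool × Fin 11 → OS U := fun p =>
    ⟨g ^ p.2.val * (if p.1 then y⁻¹ else y) * (g ^ p.2.val)⁻¹,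
      os_conj (pow_mem hgN _) (by split; exacts [A.inv_os, A.y_os])⟩
  have hcancel : ∀ (a b : ℕ) (u w : G), a ≤ b → g ^ a * u * (g ^ a)⁻¹ = g ^ b * w * (g ^ b)⁻¹ →
      g ^ (b - a) * w * (g ^ (b - a))⁻¹ = u := by
    intro a b u w hab e
    calc g ^ (b - a) * w * (g ^ (b - a))⁻¹
        = (g ^ a)⁻¹ * ((g ^ a * g ^ (b - a)) * w * (g ^ a * g ^ (b - a))⁻¹) * g ^ a := by group
      _ = (g ^ a)⁻¹ * (g ^ a * u * (g ^ a)⁻¹) * g ^ a := by
        rw [← pow_add, Nat.add_sub_cancel' hab, e]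
      _ = u := by group
  have hinj : ∀ (a b : Bool) (i j : Fin 11), i.val ≤ j.val → E (a, i) = E (b, j) →
      a = b ∧ i = j := by
    intro a b i j hij e
    have h' := hcancel _ _ _ _ hij (congrArg Subtype.val e)
    have hneg : ∀ n : ℕ, g ^ n * y⁻¹ * (g ^ n)⁻¹ = (g ^ n * y * (g ^ n)⁻¹)⁻¹ := fun n => by group
    cases a <;> cases b <;> simp only [Bool.false_eq_true, if_false, if_true] at h'
    · refine ⟨rfl, Fin.ext ?_⟩
      by_contra hne
      exact hy1 _ (by omega) h'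
    · rw [hneg, inv_eq_iff_eq_inv] at h'; exact (hy2 _ h').elim
    · exact (hy2 _ h').elim
    · rw [hneg, inv_inj] at h'
      refine ⟨rfl, Fin.ext ?_⟩
      by_contra hne
      exact hy1 _ (by omega) h'
  have hE : Function.Bijective E := by
    haveI : Fintype (OS U) := Fintype.ofFinite _
    refine (Fintype.bijective_iff_injective_and_card E).mpr ⟨?_, ?_⟩
    · rintro ⟨a, i⟩ ⟨b, j⟩ e
      rcases le_total i.val j.val with h | h
      · obtain ⟨rfl, rfl⟩ := hinj a b i j h e; rfl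
      · obtain ⟨rfl, rfl⟩ := hinj b a j i h e.symm; rfl
    · rw [← Nat.card_eq_fintype_card (α := OS U), A.card_OS]; rfl
  obtain ⟨⟨ε, i⟩, hi⟩ := hE.2 ⟨x * y * x⁻¹, os_conj hxN A.y_os⟩
  have hi' : g ^ i.val * (if ε then y⁻¹ else y) * (g ^ i.val)⁻¹ = x * y * x⁻¹ :=
    congrArg Subtype.val hi
  obtain ⟨x', hx'⟩ : ∃ x', x' = (g ^ i.val)⁻¹ * x := ⟨_, rfl⟩
  have hx'N : x' ∈ NA := hx' ▸ mul_mem (inv_mem (pow_mem hgN _)) hxN
  have hx'y : x' * y * x'⁻¹ = if ε then y⁻¹ else y := by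
    rw [hx', show (g ^ i.val)⁻¹ * x * y * ((g ^ i.val)⁻¹ * x)⁻¹ =
      (g ^ i.val)⁻¹ * (x * y * x⁻¹) * g ^ i.val by group, ← hi']
    group
  have hcomm : ∀ k : ℕ, ∀ a ∈ U.AG,
      x' * (g ^ k * a * (g ^ k)⁻¹) * x'⁻¹ = g ^ k * (x' * a * x'⁻¹) * (g ^ k)⁻¹ := by
    intro k a ha
    have hq : Commute ((⟨x', hx'N⟩ : NA) : MQ U) ((⟨g ^ k, pow_mem hgN k⟩ : NA) : MQ U) := by
      have e : ((⟨x', hx'N⟩ : NA) : MQ U) =
          (((⟨g, hgN⟩ : NA) : MQ U) ^ i.val)⁻¹ * ((⟨x, hxN⟩ : NA) : MQ U) := by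
        rw [← hpow, ← QuotientGroup.mk_inv, ← QuotientGroup.mk_mul]
        exact congrArg _ (Subtype.ext hx')
      rw [e, hpow]
      exact ((Commute.pow_pow_self _ i.val k).inv_left).mul_left (hgx.symm.pow_right k)
    have h1 := hsame (p := x' * g ^ k) (q := g ^ k * x') (hp := mul_mem hx'N (pow_mem hgN k))
      (hq := mul_mem (pow_mem hgN k) hx'N) hq.eq a ha
    rw [show x' * (g ^ k * a * (g ^ k)⁻¹) * x'⁻¹ = x' * g ^ k * a * (x' * g ^ k)⁻¹ by group, h1]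
    group
  have hall : ∀ a ∈ OS U, x' * a * x'⁻¹ = if ε then a⁻¹ else a := by
    intro a ha
    obtain ⟨⟨δ, j⟩, hj⟩ := hE.2 ⟨a, ha⟩
    have hj' : g ^ j.val * (if δ then y⁻¹ else y) * (g ^ j.val)⁻¹ = a := congrArg Subtype.val hj
    rw [← hj', hcomm _ _ (by split; exacts [A.inv_os.1, A.y_os.1])]
    cases δ <;> cases ε <;> simp only [Bool.false_eq_true, if_false, if_true] at hx'y ⊢
    · rw [hx'y]
    · rw [hx'y]; group
    · rw [show x' * y⁻¹ * x'⁻¹ = (x' * y * x'⁻¹)⁻¹ by group, hx'y]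
    · rw [show x' * y⁻¹ * x'⁻¹ = (x' * y * x'⁻¹)⁻¹ by group, hx'y]; group
  cases ε with
  | true => exact (A.no_invert_all hx'N fun a ha => by simpa using hall a ha).elim
  | false =>
    have hm : x' ∈ U.AG := A.mem_of_fix hx'N fun a ha =>
      mul_inv_eq_iff_eq_mul.mp (by simpa using hall a ha)
    refine ⟨(i.val : ℤ), ?_⟩
    show ((⟨g, hgN⟩ : NA) : MQ U) ^ (i.val : ℤ) = _
    rw [zpow_natCast, ← hpow]
    refine QuotientGroup.eq.mpr ?_
    show (g ^ i.val)⁻¹ * x ∈ U.AG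
    rw [← hx']; exact hm

theorem iso_m11 : IsSimpleGroup (MQ U) ∧ Nat.card (MQ U) = 7920 := by
  refine ⟨?_, A.card_MQ⟩
  set NA := Subgroup.normalizer (U.AG : Set G) with hNA
  set π := QuotientGroup.mk' (U.AG.subgroupOf NA)
  refine simple_7920 A.card_MQ A.cent_eleven (((SG U).subgroupOf NA).map π) ?_ fun H hH => ?_
  · have hle : U.AG.subgroupOf NA ≤ (SG U).subgroupOf NA := fun a ha =>
      mem_SG.mpr ⟨1, H63.UFour.inL_one, act_one_iff.mpr ha⟩
    have h1 := Subgroup.index_map_eq ((SG U).subgroupOf NA) (f := π)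
      (QuotientGroup.mk'_surjective _) (by rw [QuotientGroup.ker_mk']; exact hle)
    have h2 := ((SG U).subgroupOf NA).card_mul_index
    have h3 := (((SG U).subgroupOf NA).map π).card_mul_index
    rw [h1, A.card_MQ] at h3
    rw [Nat.card_congr (Subgroup.subgroupOfEquivOfLe (show SG U ≤ NA from fun _ h => h.1)).toEquiv, card_SG,
      A.card_NA] at h2
    have hi : ((SG U).subgroupOf NA).index = 22 :=
      Nat.eq_of_mul_eq_mul_left (by norm_num : 0 < 87480) (h2.trans (by norm_num))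
    rw [hi] at h3
    exact Nat.eq_of_mul_eq_mul_right (by norm_num : 0 < 22) (h3.trans (by norm_num))
  · rintro _ ⟨⟨g, hgN⟩, hg, rfl⟩
    obtain ⟨m, hm, hact⟩ := mem_SG.mp hg
    let P : M4 → Prop := fun m => ∀ g : G, U.Act g m → ∀ h : g ∈ NA, π ⟨g, h⟩ ∈ H
    refine (H63.UFour.InL_induction (P := P) ?_ ?_ hm) g hact hgN
    · intro g hg h
      have : π ⟨g, h⟩ = 1 := (QuotientGroup.eq_one_iff _).mpr (act_one_iff.mp hg)
      rw [this]; exact one_mem _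
    · intro i m hm ih g hg h
      obtain ⟨n, hn⟩ := U.exists_act hm
      have hnN := act_norm hn
      obtain ⟨m', hm', e1, -⟩ := H63.UFour.InL_inv hm
      obtain ⟨n', hn'⟩ := U.exists_act hm'
      -- g = (g n⁻¹) n
      have hinv : U.Act n⁻¹ m' := by
        have hA : n' * n ∈ U.AG := act_one_iff.mp (e1 ▸ act_mul hn' hn)
        have e : n⁻¹ = (n' * n)⁻¹ * n' := by group
        rw [e, ← one_mul m']
        exact act_mul (act_one_iff.mpr (inv_mem hA)) hn'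
      have hgn : U.Act (g * n⁻¹) (H63.UFour.g5 i * m * m') := act_mul hg hinv
      rw [mul_assoc, show m * m' = 1 from mul_eq_one_comm.mp e1, mul_one] at hgn
      obtain ⟨k, hk, hk1⟩ := g5_pow i
      have hkH : π ⟨g * n⁻¹, mul_mem h (inv_mem hnN)⟩ ^ k ∈ H := by
        have hpowA : ∀ j : ℕ, U.Act ((g * n⁻¹) ^ j) (H63.UFour.g5 i ^ j) := fun j => by
          induction j with
          | zero => rw [pow_zero, pow_zero]; exact act_one_iff.mpr (one_mem _)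
          | succ j ihj => rw [pow_succ, pow_succ]; exact act_mul ihj hgn
        have := act_one_iff.mp (hk1 ▸ hpowA k)
        rw [← map_pow]
        have e : π (⟨g * n⁻¹, mul_mem h (inv_mem hnN)⟩ ^ k) = 1 :=
          (QuotientGroup.eq_one_iff _).mpr this
        rw [e]; exact one_mem _
      have h1 := hH _ k hk hkH
      have h2 := ih n hn hnN
      have e : (⟨g, h⟩ : NA) = ⟨g * n⁻¹, mul_mem h (inv_mem hnN)⟩ * ⟨n, hnN⟩ :=
        Subtype.ext (inv_mul_cancel_right g n).symm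
      rw [e, map_mul]
      exact mul_mem h1 h2

end Aligned

end H95.SuzM11
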