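import Cfsg.Agent.H95.SuzY.Fixed
import Cfsg.Agent.H95.SuzY.Quot

/-!
# The elementary group of order 27 on the three planes
-/

set_option autoImplicit false
set_option maxRecDepth 10000
set_option synthInstance.maxSize 4000
set_option synthInstance.maxHeartbeats 200000

namespace H95.SuzM11

open H95.SuzY
open H73.Suz (Data Acts qb Bb tp)

/-- the action of `y^i t1^j t2^k` -/
def tAct (i j k : Fin 3) (v : ℕ) : ℕ := g0^[i.val] (g1^[j.val] (g2^[k.val] v))

theorem tAct_inj : ∀ i j k i' j' k' : Fin 3,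
    (([1, 2, 4, 8, 16, 32] : List ℕ).all fun v => tAct i j k v == tAct i' j' k' v) = true →
    i = i' ∧ j = j' ∧ k = k' := by decide +kernel

theorem disp_card : ∀ i j k : Fin 3,
    ((Finset.range 64).image fun v => tAct i j k v ^^^ v).card = 4 ↔
      (i ≠ 0 ∧ j = 0 ∧ k = 0) ∨ (i = 0 ∧ j ≠ 0 ∧ k = 0) ∨ (i = 0 ∧ j = 0 ∧ k ≠ 0) := by
  decide +kernel

theorem invol_words : (cWords.all fun w =>
    !(([1, 2, 4, 8, 16].all fun v => actW w (actW w v) == v) &&
      (([1, 2, 4, 8, 16].all fun v => actW w (g1 v) == g1 (actW w v)) ||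
       ([1, 2, 4, 8, 16].all fun v => actW w (g2 v) == g2 (actW w v)))) ||
    ([1, 2, 4, 8, 16].all fun v => actW w v == v)) = true := by decide +kernel

theorem low_sing : ∀ v < 16, qb v = false → g1 v = v ∨ g2 v = v → v = 0 := by decide +kernel

/-- the three planes, each with its rotation and the two others -/
def planes : List (ℕ × (ℕ → ℕ) × (ℕ → ℕ) × (ℕ → ℕ)) :=
  [(16, g0, g1, g2), (5, g1, g0, g2), (7, g2, g0, g1)]

theorem plane_facts : ∀ p ∈ planes, p.1 < 64 ∧ p.2.1 p.1 < 64 ∧ p.2.2.1 p.1 = p.1 ∧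
    p.2.2.2 p.1 = p.1 ∧ p.2.2.1 (p.2.1 p.1) = p.2.1 p.1 ∧ p.2.2.2 (p.2.1 p.1) = p.2.1 p.1 ∧
    p.2.1 (p.2.1 p.1) ≠ p.2.1 p.1 ∧ p.2.1 (p.2.1 p.1) ≠ p.1 := by decide +kernel

theorem no_reflection : ∀ s < 64, s ≠ 0 → qb s = false → ∃ p ∈ planes,
    Bb p.1 s = false ∧ Bb (p.2.1 p.1) s = false ∧
    ¬ (p.2.2.1 (p.1 ^^^ s) = p.1 ^^^ s ∧ p.2.2.2 (p.1 ^^^ s) = p.1 ^^^ s) ∧
    ¬ (p.2.2.1 (p.2.1 p.1 ^^^ s) = p.2.1 p.1 ^^^ s ∧
      p.2.2.2 (p.2.1 p.1 ^^^ s) = p.2.1 p.1 ^^^ s) := by decide +kernel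

universe u

variable {G : Type u} [Group G] [Finite G] {z : G} {Q : Subgroup G} {co : G → ℕ}
  {y t1 t2 a1 a2 : G}

/-- the subgroup generated by the three rotations -/
def T0 (y t1 t2 : G) : Subgroup G := Subgroup.closure {y, t1, t2}

/-- its elements -/
def tel (y t1 t2 : G) (i j k : Fin 3) : G := y ^ i.val * t1 ^ j.val * t2 ^ k.val

theorem pow_fin_mul {x : G} (h : x * x * x = 1) (a b : Fin 3) :
    x ^ a.val * x ^ b.val = x ^ (a + b).val := by
  rw [← pow_add, Fin.val_add]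
  exact pow_eq_pow_mod _ (by rw [pow_three', h])

variable (D : YD z Q co y) (Γ : Gens z Q co y t1 t2 a1 a2)

include D Γ

theorem comms : Commute y t1 ∧ Commute y t2 ∧ Commute t1 t2 :=
  ⟨(mem_C0.mp Γ.m1).2.symm, (mem_C0.mp Γ.m2).2.symm, Γ.tt⟩

theorem mem_T0 {a : G} : a ∈ T0 y t1 t2 ↔ ∃ i j k, a = tel y t1 t2 i j k := by
  obtain ⟨c1, c2, c3⟩ := comms D Γ
  constructor
  · intro h
    induction h using Subgroup.closure_induction with
    | mem x hx =>
      simp only [Set.mem_insert_iff, Set.mem_singleton_iff] at hx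
      rcases hx with rfl | rfl | rfl
      exacts [⟨1, 0, 0, by simp [tel]⟩, ⟨0, 1, 0, by simp [tel]⟩, ⟨0, 0, 1, by simp [tel]⟩]
    | one => exact ⟨0, 0, 0, by simp [tel]⟩
    | mul x w _ _ hx hw =>
      obtain ⟨i, j, k, rfl⟩ := hx
      obtain ⟨i', j', k', rfl⟩ := hw
      refine ⟨i + i', j + j', k + k', ?_⟩
      rw [tel, tel, tel, ← pow_fin_mul D.y3, ← pow_fin_mul Γ.o1, ← pow_fin_mul Γ.o2]
      have h1 : Commute (t1 ^ j.val * t2 ^ k.val) (y ^ i'.val) :=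
        (((c1.pow_pow i'.val j.val).symm).mul_left (c2.pow_pow i'.val k.val).symm)
      have h2 : Commute (t2 ^ k.val) (t1 ^ j'.val) := (c3.pow_pow j'.val k.val).symm
      calc y ^ i.val * t1 ^ j.val * t2 ^ k.val * (y ^ i'.val * t1 ^ j'.val * t2 ^ k'.val)
          = y ^ i.val * ((t1 ^ j.val * t2 ^ k.val) * y ^ i'.val) * t1 ^ j'.val * t2 ^ k'.val := by
            group
        _ = y ^ i.val * y ^ i'.val * t1 ^ j.val * (t2 ^ k.val * t1 ^ j'.val) * t2 ^ k'.val := by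
            rw [h1.eq]; group
        _ = y ^ i.val * y ^ i'.val * (t1 ^ j.val * t1 ^ j'.val) * (t2 ^ k.val * t2 ^ k'.val) := by
            rw [h2.eq]; group
    | inv x _ hx =>
      obtain ⟨i, j, k, rfl⟩ := hx
      refine ⟨-i, -j, -k, inv_eq_of_mul_eq_one_right ?_⟩
      have h1 : Commute (t1 ^ j.val * t2 ^ k.val) (y ^ (-i).val) :=
        (((c1.pow_pow (-i).val j.val).symm).mul_left (c2.pow_pow (-i).val k.val).symm)
      have h2 : Commute (t2 ^ k.val) (t1 ^ (-j).val) := (c3.pow_pow (-j).val k.val).symm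
      calc tel y t1 t2 i j k * tel y t1 t2 (-i) (-j) (-k)
          = y ^ i.val * ((t1 ^ j.val * t2 ^ k.val) * y ^ (-i).val) * t1 ^ (-j).val *
              t2 ^ (-k).val := by rw [tel, tel]; group
        _ = y ^ i.val * y ^ (-i).val * t1 ^ j.val * (t2 ^ k.val * t1 ^ (-j).val) *
              t2 ^ (-k).val := by rw [h1.eq]; group
        _ = y ^ i.val * y ^ (-i).val * (t1 ^ j.val * t1 ^ (-j).val) *
              (t2 ^ k.val * t2 ^ (-k).val) := by rw [h2.eq]; group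
        _ = 1 := by
          rw [pow_fin_mul D.y3, pow_fin_mul Γ.o1, pow_fin_mul Γ.o2]
          simp
  · rintro ⟨i, j, k, rfl⟩
    exact mul_mem (mul_mem (pow_mem (Subgroup.subset_closure (by simp)) _)
      (pow_mem (Subgroup.subset_closure (by simp)) _)) (pow_mem (Subgroup.subset_closure (by simp)) _)

theorem tel_mem_C0 (i j k : Fin 3) : tel y t1 t2 i j k ∈ C0 z y :=
  mul_mem (mul_mem (pow_mem (mem_C0.mpr ⟨D.yz, Commute.refl y⟩) _) (pow_mem Γ.m1 _))
    (pow_mem Γ.m2 _)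

theorem tel_acts (i j k : Fin 3) : Acts Q co (tel y t1 t2 i j k) (tAct i j k) := by
  have h1 := (mem_C0.mp Γ.m1).1
  have h2 := (mem_C0.mp Γ.m2).1
  refine D.H.acts_congr (D.H.acts_mul (h2.pow_left k.val) (D.H.acts_mul (h1.pow_left j.val)
    (acts_pow D.H D.yz D.act i.val) (acts_pow D.H h1 Γ.act1 j.val))
    (acts_pow D.H h2 Γ.act2 k.val)) fun v _ => rfl

theorem tel_inj {i j k i' j' k' : Fin 3} (h : tel y t1 t2 i j k = tel y t1 t2 i' j' k') :
    i = i' ∧ j = j' ∧ k = k' := by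
  refine tAct_inj i j k i' j' k' ?_
  have e := D.H.acts_unique (tel_acts D Γ i j k) (h ▸ tel_acts D Γ i' j' k')
  simp only [List.all_cons, List.all_nil, Bool.and_eq_true, beq_iff_eq, Bool.and_true]
  refine ⟨e 1 ?_, e 2 ?_, e 4 ?_, e 8 ?_, e 16 ?_, e 32 ?_⟩ <;> norm_num

theorem card_T0 : Nat.card (T0 y t1 t2) = 27 := by
  let F : Fin 3 × Fin 3 × Fin 3 → T0 y t1 t2 := fun p =>
    ⟨tel y t1 t2 p.1 p.2.1 p.2.2, (mem_T0 D Γ).mpr ⟨_, _, _, rfl⟩⟩
  have hF : Function.Bijective F := by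
    constructor
    · rintro ⟨i, j, k⟩ ⟨i', j', k'⟩ h
      obtain ⟨rfl, rfl, rfl⟩ := tel_inj D Γ (congrArg Subtype.val h)
      rfl
    · rintro ⟨a, ha⟩
      obtain ⟨i, j, k, rfl⟩ := (mem_T0 D Γ).mp ha
      exact ⟨(i, j, k), rfl⟩
  rw [← Nat.card_eq_of_bijective F hF]
  simp

theorem T0_le : T0 y t1 t2 ≤ C0 z y := D.rclosure_le Γ

theorem fixed_iff (i j k : Fin 3) :
    Nat.card (Q ⊓ Subgroup.centralizer ({tel y t1 t2 i j k} : Set G) : Subgroup G) = 32 ↔
      (i ≠ 0 ∧ j = 0 ∧ k = 0) ∨ (i = 0 ∧ j ≠ 0 ∧ k = 0) ∨ (i = 0 ∧ j = 0 ∧ k ≠ 0) := by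
  rw [← disp_card]
  set x := tel y t1 t2 i j k
  have hx := tel_acts D Γ i j k
  obtain ⟨c1, c2, c3⟩ := comms D Γ
  have hxy := (mem_C0.mp (tel_mem_C0 D Γ i j k)).1
  have h3 : x * x * x = 1 := by
    rw [← pow_three']
    show (y ^ i.val * t1 ^ j.val * t2 ^ k.val) ^ 3 = 1
    rw [((c2.pow_pow i.val k.val).mul_left (c3.pow_pow j.val k.val)).mul_pow,
      (c1.pow_pow i.val j.val).mul_pow, ← pow_mul, ← pow_mul, ← pow_mul, mul_comm i.val,
      mul_comm j.val, mul_comm k.val, pow_mul, pow_mul, pow_mul, pow_three', pow_three', pow_three',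
      D.y3, Γ.o1, Γ.o2]
    simp
  have := card_range_mul D.H hxy h3
  have hc : Nat.card (Set.range fun q : Q => co (x * q * x⁻¹) ^^^ co q) =
      ((Finset.range 64).image fun v => tAct i j k v ^^^ v).card := by
    rw [Nat.card_coe_set_eq, ← Set.ncard_coe_finset]
    congr 1; ext n
    simp only [Finset.coe_image, Finset.coe_range, Set.mem_image, Set.mem_Iio, Set.mem_range]
    constructor
    · rintro ⟨⟨q, hq⟩, rfl⟩
      exact ⟨co q, D.H.lt q, by rw [hx q hq]⟩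
    · rintro ⟨v, hv, rfl⟩
      obtain ⟨q, hq, rfl⟩ := D.H.surj v hv
      exact ⟨⟨q, hq⟩, by show co (x * q * x⁻¹) ^^^ co q = _; rw [hx q hq]⟩
  rw [hc] at this
  constructor
  · intro h
    rw [h] at this
    omega
  · intro h
    rw [h] at this
    exact Nat.eq_of_mul_eq_mul_left (by norm_num : 0 < 4) (this.trans (by norm_num))

theorem y_tel : y = tel y t1 t2 1 0 0 ∧ t1 = tel y t1 t2 0 1 0 ∧ t2 = tel y t1 t2 0 0 1 := by
  simp [tel]

theorem six {i j k : Fin 3}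
    (h : (i ≠ 0 ∧ j = 0 ∧ k = 0) ∨ (i = 0 ∧ j ≠ 0 ∧ k = 0) ∨ (i = 0 ∧ j = 0 ∧ k ≠ 0)) :
    tel y t1 t2 i j k ∈ ([y, y⁻¹, t1, t1⁻¹, t2, t2⁻¹] : List G) := by
  have hf : ∀ a : Fin 3, a ≠ 0 → a.val = 1 ∨ a.val = 2 := by decide
  have sq : ∀ {x : G}, x * x * x = 1 → x ^ 2 = x⁻¹ := fun {x} hx => by
    rw [pow_two, eq_inv_iff_mul_eq_one, hx]
  rcases h with ⟨h1, rfl, rfl⟩ | ⟨rfl, h1, rfl⟩ | ⟨rfl, rfl, h1⟩
  all_goals rcases hf _ h1 with e | e <;> simp [tel, e, sq D.y3, sq Γ.o1, sq Γ.o2]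

/-- An involution of `C0` centralising a rotation of another plane is `z`. -/
theorem only_invol {σ : G} (hσ : σ ∈ C0 z y) (h2 : σ * σ = 1)
    (hc : Commute σ t1 ∨ Commute σ t2) : σ = 1 ∨ σ = z := by
  obtain ⟨w, hw, hg⟩ := D.exists_word hσ
  obtain ⟨hσz, -⟩ := mem_C0.mp hσ
  have key : ∀ {t : G} {g : ℕ → ℕ}, Commute t z → Acts Q co t g → Commute σ t →
      ∀ v < 64, actW w (g v) = g (actW w v) := by
    intro t g htz htg h
    refine D.H.acts_unique (D.H.acts_mul htz hg htg) ?_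
    rw [h.eq]
    exact D.H.acts_congr (D.H.acts_mul hσz htg hg) fun _ _ => rfl
  have hs := D.H.acts_unique (D.H.acts_mul hσz hg hg) (by rw [h2]; exact D.H.acts_one)
  have h := List.all_eq_true.mp invol_words w hw
  have a1' : ([1, 2, 4, 8, 16].all fun v => actW w (actW w v) == v) = true := by
    simp only [List.all_eq_true, beq_iff_eq]
    intro v hv
    exact hs v (by simp only [List.mem_cons, List.not_mem_nil, or_false] at hv; omega)
  have a2' : (([1, 2, 4, 8, 16].all fun v => actW w (g1 v) == g1 (actW w v)) ||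
      ([1, 2, 4, 8, 16].all fun v => actW w (g2 v) == g2 (actW w v))) = true := by
    rw [Bool.or_eq_true]
    rcases hc with hc | hc
    · left
      simp only [List.all_eq_true, beq_iff_eq]
      intro v hv
      exact key (mem_C0.mp Γ.m1).1 Γ.act1 hc v
        (by simp only [List.mem_cons, List.not_mem_nil, or_false] at hv; omega)
    · right
      simp only [List.all_eq_true, beq_iff_eq]
      intro v hv
      exact key (mem_C0.mp Γ.m2).1 Γ.act2 hc v
        (by simp only [List.mem_cons, List.not_mem_nil, or_false] at hv; omega)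
  rw [a1', a2'] at h
  simp only [Bool.and_self, Bool.not_true, Bool.false_or, List.all_eq_true, beq_iff_eq] at h
  obtain ⟨c', -, hc'⟩ := D.cWord_lift hw
  have hid : ∀ v < 64, actW w v = v := ext64 hc'.2 isIso_id (fun v hv => by
    simp only [List.mem_cons, List.not_mem_nil, or_false] at hv
    rcases hv with rfl | rfl | rfl | rfl | rfl | rfl
    exacts [h 1 (by simp), h 2 (by simp), h 4 (by simp), h 8 (by simp), h 16 (by simp), by
      have hw32 : actW w 32 = g0 (actW w 16) := by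
        have := List.all_eq_true.mp (List.all_eq_true.mp cWords_comm w hw) 16 (by simp)
        rw [beq_iff_eq, g0_units.1] at this
        exact this
      rw [hw32, h 16 (by simp), g0_units.1]])
  have hQ := D.H.faithful σ hσz (D.H.acts_congr hg hid)
  have hlow := (D.mem_low hQ).mp hσ
  have hfix : g1 (co σ) = co σ ∨ g2 (co σ) = co σ := by
    rcases hc with hc | hc
    · left; rw [← Γ.act1 σ hQ, ← hc.eq, mul_inv_cancel_right]
    · right; rw [← Γ.act2 σ hQ, ← hc.eq, mul_inv_cancel_right]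
  have hq : qb (co σ) = false := by
    cases hb : qb (co σ) with
    | false => rfl
    | true => exact absurd ((D.H.sq_z hQ hb).symm.trans h2) D.H.z_ne
  exact D.H.ker σ hQ (low_sing _ hlow hq hfix)

/-- No element of `C(z)` inverts the three rotations. -/
theorem no_inverter {c : G} (hcz : Commute c z) (h2 : c * c = 1) (hy : c * y * c⁻¹ = y⁻¹)
    (h1 : c * t1 * c⁻¹ = t1⁻¹) (h2' : c * t2 * c⁻¹ = t2⁻¹) : False := by
  obtain ⟨g, hg, I⟩ := D.H.exists_act hcz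
  have hcQ : c ∉ Q := fun h => by
    have hm : c * (y * c⁻¹ * y⁻¹) ∈ Q := mul_mem h (D.H.nor y D.yz.eq _ (inv_mem h))
    rw [show c * (y * c⁻¹ * y⁻¹) = c * y * c⁻¹ * y⁻¹ by group, hy] at hm
    have := D.eq_one_of_mem (w := y⁻¹ * y⁻¹) (mul_mem (inv_mem (Subgroup.mem_zpowers y))
      (inv_mem (Subgroup.mem_zpowers y))) hm
    refine D.y_ne ?_
    have h3 := D.y3
    rw [← mul_inv_rev, inv_eq_one] at this
    rwa [this, one_mul] at h3
  obtain ⟨s, hs, hs0, hsq, -, hmove⟩ := D.H.axis c hcz hcQ (by rw [h2]; exact one_mem Q)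
  have rel : ∀ {t : G} {gt : ℕ → ℕ}, Commute t z → Acts Q co t gt → c * t * c⁻¹ = t⁻¹ →
      ∀ v < 64, gt (g (gt v)) = g v := by
    intro t gt htz htg e
    have e' : t * (c * t) = c := by
      have := mul_inv_eq_iff_eq_mul.mp e
      rw [this]; group
    refine D.H.acts_unique ?_ hg
    conv => arg 3; rw [← e']
    exact D.H.acts_mul (hcz.mul_left htz) htg (D.H.acts_mul htz hg htg)
  have r0 := rel D.yz D.act hy
  have r1 := rel (mem_C0.mp Γ.m1).1 Γ.act1 h1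
  have r2 := rel (mem_C0.mp Γ.m2).1 Γ.act2 h2'
  obtain ⟨p, hp, hb1, hb2, hn1, hn2⟩ := no_reflection s hs hs0 hsq
  obtain ⟨l1, l2, f1, f2, f3, f4, f5, f6⟩ := plane_facts p hp
  have hrel : (∀ v < 64, p.2.1 (g (p.2.1 v)) = g v) ∧ (∀ v < 64, p.2.2.1 (g (p.2.2.1 v)) = g v) ∧
      (∀ v < 64, p.2.2.2 (g (p.2.2.2 v)) = g v) := by
    simp only [planes, List.mem_cons, List.not_mem_nil, or_false] at hp
    rcases hp with rfl | rfl | rfl
    exacts [⟨r0, r1, r2⟩, ⟨r1, r0, r2⟩, ⟨r2, r0, r1⟩]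
  have hfixed : ∀ a < 64, Bb a s = false → p.2.2.1 a = a → p.2.2.2 a = a →
      ¬ (p.2.2.1 (a ^^^ s) = a ^^^ s ∧ p.2.2.2 (a ^^^ s) = a ^^^ s) → g a = a := by
    intro a ha hBa hfj hfk hn
    obtain ⟨q, hq, rfl⟩ := D.H.surj a ha
    rcases hmove q hq hBa with e | e
    · rw [← hg q hq, e]
    · exfalso
      rw [hg q hq] at e
      refine hn ⟨?_, ?_⟩
      · have := hrel.2.1 _ ha; rwa [hfj, e] at this
      · have := hrel.2.2 _ ha; rwa [hfk, e] at this
  have k1 := hfixed _ l1 hb1 f1 f2 hn1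
  have k2 := hfixed _ l2 hb2 f3 f4 hn2
  have := hrel.1 _ l1
  rw [k2, k1] at this
  exact f6 this

/-- All subgroups of order 27 of `C0` are conjugate to `T0`. -/
theorem align {X : Subgroup G} (hX : X ≤ C0 z y) (hcard : Nat.card X = 27) :
    ∃ d ∈ C0 z y, ∀ a, a ∈ T0 y t1 t2 → d * a * d⁻¹ ∈ X := by
  have hp : Fact (Nat.Prime 3) := ⟨Nat.prime_three⟩
  have hf : (3456 : ℕ).factorization 3 = 3 := by
    rw [show (3456 : ℕ) = 3 ^ 3 * 128 by norm_num,
      Nat.factorization_mul (by norm_num) (by norm_num), Nat.factorization_pow,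
      Finsupp.add_apply, Finsupp.smul_apply, Nat.prime_three.factorization_self,
      Nat.factorization_eq_zero_of_not_dvd (by norm_num : ¬ 3 ∣ 128)]
    rfl
  have hsub : ∀ (Y : Subgroup G), Y ≤ C0 z y → Nat.card Y = 27 →
      Nat.card (Y.subgroupOf (C0 z y)) = 3 ^ (Nat.card (C0 z y)).factorization 3 := fun Y hY hc => by
    rw [Nat.card_congr (Subgroup.subgroupOfEquivOfLe hY).toEquiv, hc, D.card_C0, hf]; rfl
  let P1 := Sylow.ofCard _ (hsub _ (T0_le D Γ) (card_T0 D Γ))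
  let P2 := Sylow.ofCard _ (hsub _ hX hcard)
  obtain ⟨d, hd⟩ := MulAction.exists_smul_eq (C0 z y) P1 P2
  refine ⟨d, d.2, fun a ha => ?_⟩
  have hm : (d * ⟨a, T0_le D Γ ha⟩ * d⁻¹ : C0 z y) ∈ (P2 : Subgroup (C0 z y)) := by
    rw [← hd, Sylow.coe_subgroup_smul]
    exact ⟨⟨a, T0_le D Γ ha⟩, ha, by simp [MulAut.conj_apply]⟩
  exact hm

end H95.SuzM11
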