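import Cfsg.Agent.H95.SuzM11.Lift
import Cfsg.Agent.H95.SuzM11.Planes

/-!
# The eleven conjugates in the group of order `3^5`
-/

set_option autoImplicit false
set_option maxRecDepth 10000

namespace H95.SuzM11

open H87.U43 (V4 M4 InL qA app xV yV d1V d2V i1V i2V zMat sMat spMat tauMat Datum)
open H63.UFour (tr vec_cases)
open H95.SuzY
open H73.Suz (Data Acts)

universe u v

variable {G : Type u} [Group G] [Finite G] {z : G} {Q : Subgroup G} {co : G → ℕ}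
  {y t1 t2 a1 a2 : G} {K : Type v} [Group K] {D : YD z Q co y}

/-- After a change of coordinates the three rotations lie in the group. -/
theorem exists_aligned (U : UData D K) (Γ : Gens z Q co y t1 t2 a1 a2) :
    ∃ U' : UData D K, t1 ∈ U'.AG ∧ t2 ∈ U'.AG := by
  obtain ⟨d, hd, hdT⟩ := align D Γ U.TG_le U.card_TG
  obtain ⟨hdz, hdy⟩ := mem_C0.mp hd
  let dC : Subgroup.centralizer ({y} : Set G) := ⟨d, UData.hyc.mpr hdy⟩
  let π' : Subgroup.centralizer ({y} : Set G) →* K := U.π.comp (MulAut.conj dC).toMonoidHom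
  have hval : ∀ c : Subgroup.centralizer ({y} : Set G),
      ((MulAut.conj dC c : Subgroup.centralizer ({y} : Set G)) : G) = d * c * d⁻¹ := fun c => rfl
  have hfix : ∀ {c : G}, Commute d c → d * c * d⁻¹ = c := fun h => by
    rw [h.eq, mul_inv_cancel_right]
  let U' : UData D K :=
    { π := π'
      surj := U.surj.comp (MulAut.conj dC).surjective
      ker := fun c => by
        show U.π (MulAut.conj dC c) = 1 ↔ _
        rw [U.ker, hval]
        constructor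
        · intro h
          have e := hfix (UData.comm_y hdy h)
          have : (c : G) = d * c * d⁻¹ := (mul_left_cancel (mul_right_cancel e)).symm
          rw [this]; exact h
        · intro h
          rwa [hfix (UData.comm_y hdy h)]
      Da := U.Da
      top := U.top
      pz := fun h => by
        show U.π (MulAut.conj dC ⟨z, h⟩) = _
        rw [← U.pz h]
        exact congrArg U.π (Subtype.ext (by rw [hval]; exact hfix hdz))
      one := U.one }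
  refine ⟨U', ?_⟩
  have : ∀ t, t ∈ T0 y t1 t2 → Commute t y → t ∈ U'.AG := fun t ht hty => by
    obtain ⟨⟨v, h, e⟩, -⟩ := hdT t ht
    refine ⟨v, UData.hyc.mpr hty, ?_⟩
    rw [← e]
    exact congrArg U.π (Subtype.ext (hval _))
  exact ⟨this t1 (Subgroup.subset_closure (by simp)) (mem_C0.mp Γ.m1).2,
    this t2 (Subgroup.subset_closure (by simp)) (mem_C0.mp Γ.m2).2⟩

/-- coordinates adapted to the three rotations -/
structure Aligned (U : UData D K) (t1 t2 a1 a2 : G) : Prop where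
  gens : Gens z Q co y t1 t2 a1 a2
  in1 : t1 ∈ U.AG
  in2 : t2 ∈ U.AG

namespace Aligned

variable {U : UData D K} (A : Aligned U t1 t2 a1 a2)

include A

theorem TG_eq : U.TG = T0 y t1 t2 := by
  refine (Subgroup.eq_of_le_of_card_ge ?_ ?_).symm
  · refine (Subgroup.closure_le _).mpr ?_
    rintro x (rfl | rfl | rfl)
    · exact U.y_mem_TG
    · exact ⟨A.in1, Subgroup.mem_centralizer_singleton_iff.mpr (mem_C0.mp A.gens.m1).1⟩
    · exact ⟨A.in2, Subgroup.mem_centralizer_singleton_iff.mpr (mem_C0.mp A.gens.m2).1⟩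
  · rw [U.card_TG, card_T0 D A.gens]

/-- A conjugate centralised by `z` is conjugate inside `C(z)`. -/
theorem conj_in_cent {a : G} (haz : Commute a z) (ha : IsConj y a) :
    ∃ h, Commute h z ∧ h * y * h⁻¹ = a := by
  obtain ⟨g, hg⟩ := isConj_iff.mp ha
  set u := g⁻¹ * z * g with hu
  have hu2 : u * u = 1 := by
    rw [hu, show g⁻¹ * z * g * (g⁻¹ * z * g) = g⁻¹ * (z * z) * g by group, D.H.zz]; group
  have huy : Commute u y := by
    show _ = _
    have e : y = g⁻¹ * a * g := by rw [← hg]; group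
    rw [hu, e, show g⁻¹ * z * g * (g⁻¹ * a * g) = g⁻¹ * (z * a) * g by group, ← haz.eq]
    group
  have huC := UData.hyc.mpr huy
  have ho : orderOf (U.π ⟨u, huC⟩) = 2 := by
    refine orderOf_eq_prime ?_ fun h => ?_
    · rw [pow_two, ← map_mul]
      exact (congrArg U.π (Subtype.ext hu2)).trans (map_one _)
    · have : u = 1 := D.eq_one_of_sq ((U.ker _).mp h) hu2
      refine D.H.z_ne ?_
      have e : z = g * u * g⁻¹ := by rw [hu]; group
      rw [e, this]; group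
  obtain ⟨k, hk⟩ := isConj_iff.mp (U.one _ ho)
  obtain ⟨⟨c, hc⟩, rfl⟩ := U.surj k
  have hzC : z ∈ Subgroup.centralizer ({y} : Set G) := UData.hyc.mpr D.yz.symm
  have hm : c * u * c⁻¹ * z ∈ Subgroup.zpowers y := by
    refine (U.ker ⟨c * u * c⁻¹ * z, mul_mem (mul_mem (mul_mem hc huC) (inv_mem hc)) hzC⟩).mp ?_
    rw [show (⟨c * u * c⁻¹ * z, mul_mem (mul_mem (mul_mem hc huC) (inv_mem hc)) hzC⟩ :
      Subgroup.centralizer ({y} : Set G)) = ⟨c, hc⟩ * ⟨u, huC⟩ * ⟨c, hc⟩⁻¹ * ⟨z, hzC⟩ from rfl,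
      map_mul, map_mul, map_mul, map_inv, hk, U.pz, U.Da.z_sq]
  set r := c * u * c⁻¹ * z with hr
  have hrz := D.comm_zy hm
  have hr1 : r = 1 := by
    refine D.eq_one_of_sq hm ?_
    have e : (r * z) * (r * z) = 1 := by
      rw [hr, show c * u * c⁻¹ * z * z = c * u * c⁻¹ * (z * z) by group, D.H.zz, mul_one,
        show c * u * c⁻¹ * (c * u * c⁻¹) = c * (u * u) * c⁻¹ by group, hu2]
      group
    rwa [show r * z * (r * z) = r * (z * r) * z by group, ← hrz.eq,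
      show r * (r * z) * z = r * r * (z * z) by group, D.H.zz, mul_one] at e
  have hcu : c * u * c⁻¹ = z := by
    have : c * u * c⁻¹ * z = 1 := hr ▸ hr1
    calc c * u * c⁻¹ = c * u * c⁻¹ * z * z⁻¹ := by group
      _ = z := by rw [this, one_mul, D.H.z_inv]
  refine ⟨g * c⁻¹, ?_, ?_⟩
  · show _ = _
    conv_lhs => rw [← hcu]
    rw [hu]; group
  · rw [mul_inv_rev, inv_inv, show g * c⁻¹ * y * (c * g⁻¹) = g * (c⁻¹ * y * c) * g⁻¹ by group,
      show c⁻¹ * y * c = y by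
        rw [mul_assoc, ← (UData.hyc.mp hc).eq, inv_mul_cancel_left], hg]

omit A in
theorem card_cent_conj (D : YD z Q co y) {h : G} (hh : Commute h z) :
    Nat.card (Q ⊓ Subgroup.centralizer ({h * y * h⁻¹} : Set G) : Subgroup G) = 32 := by
  have hQy : Q ⊓ C0 z y = Q ⊓ Subgroup.centralizer ({y} : Set G) := by
    ext x
    refine ⟨fun k => ⟨k.1, k.2.2⟩, fun k => ⟨k.1, ?_, k.2⟩⟩
    exact Subgroup.mem_centralizer_singleton_iff.mpr (D.H.comm_z k.1).eq
  rw [← D.card_low, hQy]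
  have m1 : ∀ q ∈ Q ⊓ Subgroup.centralizer ({y} : Set G),
      h * q * h⁻¹ ∈ Q ⊓ Subgroup.centralizer ({h * y * h⁻¹} : Set G) := by
    rintro q ⟨h1, h2⟩
    refine ⟨D.H.nor h hh.eq _ h1, Subgroup.mem_centralizer_singleton_iff.mpr ?_⟩
    have := Subgroup.mem_centralizer_singleton_iff.mp h2
    rw [show h * q * h⁻¹ * (h * y * h⁻¹) = h * (q * y) * h⁻¹ by group, this]; group
  have m2 : ∀ q ∈ Q ⊓ Subgroup.centralizer ({h * y * h⁻¹} : Set G),
      h⁻¹ * q * h ∈ Q ⊓ Subgroup.centralizer ({y} : Set G) := by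
    rintro q ⟨h1, h2⟩
    refine ⟨by simpa using D.H.nor h⁻¹ hh.inv_left.eq _ h1,
      Subgroup.mem_centralizer_singleton_iff.mpr ?_⟩
    have := Subgroup.mem_centralizer_singleton_iff.mp h2
    calc h⁻¹ * q * h * y = h⁻¹ * (q * (h * y * h⁻¹)) * h := by group
      _ = h⁻¹ * ((h * y * h⁻¹) * q) * h := by rw [this]
      _ = y * (h⁻¹ * q * h) := by group
  exact (Nat.card_congr
    { toFun := fun q => ⟨_, m1 q.1 q.2⟩
      invFun := fun q => ⟨_, m2 q.1 q.2⟩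
      left_inv := fun q => Subtype.ext (by simp [mul_assoc])
      right_inv := fun q => Subtype.ext (by simp [mul_assoc]) }).symm

theorem six_of_conj {a : G} (ha : a ∈ U.TG) (hc : IsConj y a) :
    a ∈ ([y, y⁻¹, t1, t1⁻¹, t2, t2⁻¹] : List G) := by
  obtain ⟨h, hh, he⟩ := A.conj_in_cent (Subgroup.mem_centralizer_singleton_iff.mp ha.2) hc
  obtain ⟨i, j, k, rfl⟩ := (mem_T0 D A.gens).mp (A.TG_eq ▸ ha)
  refine six D A.gens ((fixed_iff D A.gens i j k).mp ?_)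
  rw [← he]
  exact card_cent_conj D hh

theorem fixed_six {a : G} (ha : a ∈ ([y, y⁻¹, t1, t1⁻¹, t2, t2⁻¹] : List G)) :
    a ∈ T0 y t1 t2 ∧
      Nat.card (Q ⊓ Subgroup.centralizer ({a} : Set G) : Subgroup G) = 32 := by
  have sq : ∀ {x : G}, x * x * x = 1 → x⁻¹ = x ^ 2 := fun {x} hx => by
    rw [pow_two, inv_eq_iff_mul_eq_one, ← mul_assoc, hx]
  obtain ⟨e0, e1, e2⟩ :=
    (⟨by simp [tel, sq D.y3], by simp [tel, sq A.gens.o1], by simp [tel, sq A.gens.o2]⟩ :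
      y⁻¹ = tel y t1 t2 2 0 0 ∧ t1⁻¹ = tel y t1 t2 0 2 0 ∧ t2⁻¹ = tel y t1 t2 0 0 2)
  obtain ⟨f0, f1, f2⟩ := y_tel (t1 := t1) (t2 := t2) D A.gens
  have key : ∀ i j k : Fin 3, ((i ≠ 0 ∧ j = 0 ∧ k = 0) ∨ (i = 0 ∧ j ≠ 0 ∧ k = 0) ∨
      (i = 0 ∧ j = 0 ∧ k ≠ 0)) → a = tel y t1 t2 i j k →
      a ∈ T0 y t1 t2 ∧ Nat.card (Q ⊓ Subgroup.centralizer ({a} : Set G) : Subgroup G) = 32 :=
    fun i j k h e => ⟨(mem_T0 D A.gens).mpr ⟨i, j, k, e⟩, e ▸ (fixed_iff D A.gens i j k).mpr h⟩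
  simp only [List.mem_cons, List.not_mem_nil, or_false] at ha
  rcases ha with rfl | rfl | rfl | rfl | rfl | rfl
  exacts [key 1 0 0 (by decide) f0, key 2 0 0 (by decide) e0, key 0 1 0 (by decide) f1,
    key 0 2 0 (by decide) e1, key 0 0 1 (by decide) f2, key 0 0 2 (by decide) e2]

/-- Each of the six is an image of `y` under the normaliser. -/
theorem move_six {a : G} (ha : a ∈ ([y, y⁻¹, t1, t1⁻¹, t2, t2⁻¹] : List G)) :
    ∃ g ∈ Subgroup.normalizer (U.AG : Set G), g * y * g⁻¹ = a := by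
  obtain ⟨haT, h32⟩ := A.fixed_six ha
  obtain ⟨i, j, k, rfl⟩ := (mem_T0 D A.gens).mp haT
  set a := tel y t1 t2 i j k with had
  obtain ⟨haz, -⟩ := mem_C0.mp (tel_mem_C0 D A.gens i j k)
  have h3 : a * a * a = 1 := by
    rw [← pow_three']
    exact U.elementary.2 a (A.TG_eq.symm ▸ haT : a ∈ U.TG).1
  obtain ⟨c, hc, hca⟩ := D.conj_of_fixed haz h3 h32
  let X := (T0 y t1 t2).map (MulAut.conj c⁻¹).toMonoidHom
  have hX : X ≤ C0 z y := by
    rintro x ⟨t, ht, rfl⟩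
    have htz := (mem_C0.mp (T0_le D A.gens ht)).1
    have hta : Commute t a :=
      U.elementary.1 t (A.TG_eq.symm ▸ ht : t ∈ U.TG).1 a (A.TG_eq.symm ▸ haT : a ∈ U.TG).1
    show MulAut.conj c⁻¹ t ∈ C0 z y
    rw [MulAut.conj_apply, inv_inv]
    refine mem_C0.mpr ⟨(hc.inv_left.mul_left htz).mul_left hc, ?_⟩
    have hy' : y = c⁻¹ * a * c := by rw [had, ← hca]; group
    show _ = _
    rw [hy', show c⁻¹ * t * c * (c⁻¹ * a * c) = c⁻¹ * (t * a) * c by group, hta.eq]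
    group
  have hXc : Nat.card X = 27 := by
    rw [← card_T0 D A.gens]
    exact Nat.card_congr ((T0 y t1 t2).equivMapOfInjective _ (MulAut.conj c⁻¹).injective).toEquiv.symm
  obtain ⟨d, hd, hdT⟩ := align D A.gens hX hXc
  refine ⟨c * d, U.normalizes_of_TG fun t ht => ?_, ?_⟩
  · rw [A.TG_eq] at ht ⊢
    obtain ⟨s, hs, e⟩ := hdT t ht
    have e' : c⁻¹ * s * c = d * t * d⁻¹ := by
      rw [← e]; show _ = c⁻¹ * s * c⁻¹⁻¹; rw [inv_inv]
    rw [show c * d * t * (c * d)⁻¹ = c * (d * t * d⁻¹) * c⁻¹ by group, ← e']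
    rwa [show c * (c⁻¹ * s * c) * c⁻¹ = s by group]
  · rw [show c * d * y * (c * d)⁻¹ = c * (d * y * d⁻¹) * c⁻¹ by group,
      (mem_C0.mp hd).2.eq, mul_inv_cancel_right, hca]

omit A in
theorem invol_facts {k : K} {m : M4} (hk : k * k = 1) (hkz : U.Da.z * k = k * U.Da.z)
    (hact : ∀ v, k * tr U.Da v * k⁻¹ = tr U.Da (app m v))
    {t : G} {v : V4} (ht : U.Img t v) (hv : app m v = v) :
    ∃ σ, ∃ h : σ ∈ Subgroup.centralizer ({y} : Set G),
      U.π ⟨σ, h⟩ = k ∧ σ ∈ C0 z y ∧ σ * σ = 1 ∧ Commute σ t := by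
  obtain ⟨σ, h, h2, e⟩ := U.exists_invol hk
  have hzC : z ∈ Subgroup.centralizer ({y} : Set G) := UData.hyc.mpr D.yz.symm
  have hinv : σ⁻¹ = σ := inv_eq_of_mul_eq_one_right h2
  have hσy := UData.hyc.mp h
  refine ⟨σ, h, e, mem_C0.mpr ⟨?_, hσy⟩, h2, ?_⟩
  · have hm : z * σ * z⁻¹ * σ⁻¹ ∈ Subgroup.zpowers y := by
      refine (U.ker ⟨_, mul_mem (mul_mem (mul_mem hzC h) (inv_mem hzC)) (inv_mem h)⟩).mp ?_
      rw [show (⟨z * σ * z⁻¹ * σ⁻¹, mul_mem (mul_mem (mul_mem hzC h) (inv_mem hzC)) (inv_mem h)⟩ :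
        Subgroup.centralizer ({y} : Set G)) = ⟨z, hzC⟩ * ⟨σ, h⟩ * ⟨z, hzC⟩⁻¹ * ⟨σ, h⟩⁻¹ from rfl,
        map_mul, map_mul, map_mul, map_inv, map_inv, e, U.pz, hkz, mul_inv_cancel_right,
        mul_inv_cancel]
    obtain ⟨r, hr⟩ : ∃ r, r = z * σ * z⁻¹ * σ⁻¹ := ⟨_, rfl⟩
    rw [← hr] at hm
    have e1 : z * σ * z⁻¹ = r * σ := by rw [hr]; group
    have hr1 : r = 1 := D.eq_one_of_sq hm (by
      have : (r * σ) * (r * σ) = 1 := by
        rw [← e1, show z * σ * z⁻¹ * (z * σ * z⁻¹) = z * (σ * σ) * z⁻¹ by group, h2]; group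
      rwa [show r * σ * (r * σ) = r * (σ * r) * σ by group, (UData.comm_y hσy hm).eq,
        show r * (r * σ) * σ = r * r * (σ * σ) by group, h2, mul_one] at this)
    rw [hr1, one_mul] at e1
    exact (mul_inv_eq_iff_eq_mul.mp e1).symm
  · have hm : σ * t * σ⁻¹ * t⁻¹ ∈ Subgroup.zpowers y := by
      refine (U.ker ⟨_, mul_mem (mul_mem (mul_mem h ht.1) (inv_mem h)) (inv_mem ht.1)⟩).mp ?_
      rw [show (⟨σ * t * σ⁻¹ * t⁻¹, mul_mem (mul_mem (mul_mem h ht.1) (inv_mem h))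
          (inv_mem ht.1)⟩ : Subgroup.centralizer ({y} : Set G)) =
          ⟨σ, h⟩ * ⟨t, ht.1⟩ * ⟨σ, h⟩⁻¹ * ⟨t, ht.1⟩⁻¹ from rfl,
        map_mul, map_mul, map_mul, map_inv, map_inv, e, ht.2, hact, hv, mul_inv_cancel]
    obtain ⟨r, hr⟩ : ∃ r, r = σ * t * σ⁻¹ * t⁻¹ := ⟨_, rfl⟩
    rw [← hr] at hm
    have e1 : σ * t * σ⁻¹ = r * t := by rw [hr]; group
    have hr1 : r = 1 := D.eq_one_of_sq hm (by
      have : σ * (σ * t * σ⁻¹) * σ⁻¹ = r * r * t := by
        rw [e1, show σ * (r * t) * σ⁻¹ = (σ * r * σ⁻¹) * (σ * t * σ⁻¹) by group, e1,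
          (UData.comm_y hσy hm).eq, mul_inv_cancel_right, mul_assoc]
      rw [show σ * (σ * t * σ⁻¹) * σ⁻¹ = (σ * σ) * t * (σ * σ)⁻¹ by group, h2] at this
      simpa using this)
    rw [hr1, one_mul] at e1
    exact mul_inv_eq_iff_eq_mul.mp e1

theorem sing_of {t : G} (ht : t = t1 ∨ t = t2) {v : V4} (hv : U.Img t v) :
    v ≠ 0 ∧ qA v = 0 ∧ v 2 = 0 ∧ v 3 = 0 := by
  obtain ⟨f0, f1, f2⟩ := y_tel (t1 := t1) (t2 := t2) D A.gens
  have htT : t ∈ U.TG := by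
    rw [A.TG_eq]
    rcases ht with rfl | rfl <;> exact Subgroup.subset_closure (by simp)
  obtain ⟨h2, h3⟩ := (U.mem_TG hv).mp htT
  have hv0 : v ≠ 0 := fun e => by
    subst e
    obtain ⟨n, hn⟩ := (U.img_zero.mp hv)
    have hmem : t ∈ T0 y t1 t2 := by rw [← A.TG_eq]; exact htT
    have : ∃ i : Fin 3, t = tel y t1 t2 i 0 0 := by
      refine ⟨⟨(n % 3).toNat, by omega⟩, ?_⟩
      rw [tel, Fin.val_zero, pow_zero, pow_zero, mul_one, mul_one, ← hn]
      show y ^ n = y ^ (n % 3).toNat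
      rw [← zpow_natCast, Int.toNat_of_nonneg (Int.emod_nonneg n (by norm_num))]
      have := zpow_mod_orderOf y n
      rw [UData.orderOf_y D] at this
      exact this.symm
    obtain ⟨i, hi⟩ := this
    rcases ht with rfl | rfl
    · exact absurd (tel_inj D A.gens (hi.symm.trans f1)).2.1 (by decide)
    · exact absurd (tel_inj D A.gens (hi.symm.trans f2)).2.2 (by decide)
  refine ⟨hv0, ?_, h2, h3⟩
  have e : v = ![v 0, v 1, 0, 0] := by funext i; fin_cases i <;> simp [h2, h3]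
  by_contra hq
  have hs : ∀ w, U.Da.s * tr U.Da w * U.Da.s⁻¹ = tr U.Da (app sMat w) := U.Da.s_act
  have hcases : app sMat v = v ∨ app spMat v = v := by
    rcases span_lines (v 0) (v 1) (e ▸ hv0) with h | h
    · rwa [← e] at h
    · rw [← e] at h; exact absurd h hq
  have hor : Commute t t1 ∨ Commute t t2 := by
    rcases ht with rfl | rfl
    exacts [Or.inl (Commute.refl _), Or.inr (Commute.refl _)]
  have key : ∀ (k : K) (m : M4), k * k = 1 → U.Da.z * k = k * U.Da.z →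
      (∀ w, k * tr U.Da w * k⁻¹ = tr U.Da (app m w)) → app m v = v →
      m ≠ 1 → m ≠ zMat → False := by
    intro k m hk hkz hact hmv hm1 hmz
    obtain ⟨σ, h, eσ, hσ0, hσ2, hσt⟩ := invol_facts hk hkz hact hv hmv
    have hσc : Commute σ t1 ∨ Commute σ t2 := by
      rcases ht with rfl | rfl
      exacts [Or.inl hσt, Or.inr hσt]
    rcases only_invol D A.gens hσ0 hσ2 hσc with e' | e'
    · refine hm1 (H63.UFour.app_injective fun w => ?_)
      have hk1 : k = 1 := by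
        rw [← eσ]; exact (congrArg U.π (Subtype.ext e')).trans (map_one _)
      have := hact w
      rw [hk1, one_mul, inv_one, mul_one] at this
      rw [H63.UFour.app_one]
      exact (H63.UFour.tr_inj U.Da this).symm
    · refine hmz (H63.UFour.app_injective fun w => ?_)
      have hk1 : k = U.Da.z := by
        rw [← eσ, ← U.pz (UData.hyc.mpr D.yz.symm)]; exact congrArg U.π (Subtype.ext e')
      have := hact w
      rw [hk1] at this
      exact H63.UFour.tr_inj U.Da (this.symm.trans (U.Da.z_act w))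
  rcases hcases with h | h
  · exact key U.Da.s sMat U.Da.s_sq U.Da.zs hs h (by decide +kernel) (by decide +kernel)
  · refine key (U.Da.s * U.Da.tau) spMat ?_ ?_ ?_ h (by decide +kernel) (by decide +kernel)
    · calc U.Da.s * U.Da.tau * (U.Da.s * U.Da.tau)
          = U.Da.s * (U.Da.tau * U.Da.s) * U.Da.tau := by group
        _ = U.Da.s * (U.Da.s * U.Da.tau * U.Da.z) * U.Da.tau := by rw [U.Da.tau_s]
        _ = U.Da.s * U.Da.s * (U.Da.tau * (U.Da.z * U.Da.tau)) := by group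
        _ = U.Da.tau * U.Da.tau * U.Da.z := by
          rw [U.Da.s_sq, one_mul, ← U.Da.tau_sq]; group
        _ = 1 := by rw [U.Da.tau_sq, U.Da.z_sq]
    · calc U.Da.z * (U.Da.s * U.Da.tau) = U.Da.z * U.Da.s * U.Da.tau := (mul_assoc _ _ _).symm
        _ = U.Da.s * (U.Da.z * U.Da.tau) := by rw [U.Da.zs, mul_assoc]
        _ = U.Da.s * U.Da.tau * U.Da.z := by rw [← U.Da.tau_sq]; group
    · intro w
      rw [show U.Da.s * U.Da.tau * tr U.Da w * (U.Da.s * U.Da.tau)⁻¹ =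
        U.Da.s * (U.Da.tau * tr U.Da w * U.Da.tau⁻¹) * U.Da.s⁻¹ by group]
      have := U.Da.tau_act w
      change _ * tr U.Da w * _ = tr U.Da _ at this
      rw [this, hs, ← H63.UFour.app_mul, show sMat * tauMat = spMat by decide +kernel]

/-- the conjugates in the group -/
def OS (U : UData D K) : Set G := {a | a ∈ U.AG ∧ IsConj y a}

omit A in
theorem act_norm {n : G} {m : M4} (hn : U.Act n m) :
    n ∈ Subgroup.normalizer (U.AG : Set G) :=
  UData.mem_normalizer_of fun _ ⟨v, hv⟩ => ⟨_, hn.img hv⟩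

omit A in
theorem conj_step {g a : G} (h : IsConj y a) : IsConj y (g * a * g⁻¹) :=
  h.trans (isConj_iff.mpr ⟨g, rfl⟩)

theorem six_img {a : G} (ha : a ∈ ([y, y⁻¹, t1, t1⁻¹, t2, t2⁻¹] : List G)) {v : V4}
    (hv : U.Img a v) : (v = 0 ∧ (a = y ∨ a = y⁻¹)) ∨
      (qA v = 0 ∧ v ≠ 0 ∧ (a = t1 ∨ a = t1⁻¹ ∨ a = t2 ∨ a = t2⁻¹)) := by
  have hq : ∀ w : V4, qA (-w) = qA w := fun w => by simp [qA]
  simp only [List.mem_cons, List.not_mem_nil, or_false] at ha
  rcases ha with rfl | rfl | rfl | rfl | rfl | rfl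
  · exact Or.inl ⟨hv.unique U.y_img, Or.inl rfl⟩
  · exact Or.inl ⟨(hv.unique U.y_img.inv).trans neg_zero, Or.inr rfl⟩
  · obtain ⟨h1, h2, -⟩ := A.sing_of (Or.inl rfl) hv
    exact Or.inr ⟨h2, h1, Or.inl rfl⟩
  · obtain ⟨h1, h2, -⟩ := A.sing_of (Or.inl rfl) (v := -v) (by simpa using hv.inv)
    exact Or.inr ⟨by rwa [hq] at h2, fun e => h1 (by rw [e, neg_zero]), Or.inr (Or.inl rfl)⟩
  · obtain ⟨h1, h2, -⟩ := A.sing_of (Or.inr rfl) hv
    exact Or.inr ⟨h2, h1, Or.inr (Or.inr (Or.inl rfl))⟩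
  · obtain ⟨h1, h2, -⟩ := A.sing_of (Or.inr rfl) (v := -v) (by simpa using hv.inv)
    exact Or.inr ⟨by rwa [hq] at h2, fun e => h1 (by rw [e, neg_zero]),
      Or.inr (Or.inr (Or.inr rfl))⟩

theorem six_unique {a b : G} (ha : a ∈ ([y, y⁻¹, t1, t1⁻¹, t2, t2⁻¹] : List G))
    (hb : b ∈ ([y, y⁻¹, t1, t1⁻¹, t2, t2⁻¹] : List G)) {v : V4} (hav : U.Img a v)
    (hbv : U.Img b v) (hv : v ≠ 0) : a = b := by
  have h0 := U.img_zero.mp (show U.Img (a * b⁻¹) 0 by
    have := hav.mul hbv.inv; rwa [add_neg_cancel] at this)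
  obtain ⟨haT, -⟩ := A.fixed_six ha
  obtain ⟨hbT, -⟩ := A.fixed_six hb
  have ha' := ((A.six_img ha hav).resolve_left fun h => hv h.1).2.2
  have hb' := ((A.six_img hb hbv).resolve_left fun h => hv h.1).2.2
  obtain ⟨i, j, k, ea⟩ := (mem_T0 D A.gens).mp haT
  obtain ⟨i', j', k', eb⟩ := (mem_T0 D A.gens).mp hbT
  have hfin : ∀ x : G, x ∈ Subgroup.zpowers y → ∃ l : Fin 3, x = y ^ l.val := by
    intro x hx
    classical
    obtain ⟨n, hn, rfl⟩ := Finset.mem_image.mp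
      ((isOfFinOrder_of_finite y).mem_zpowers_iff_mem_range_orderOf.mp hx)
    rw [Finset.mem_range, UData.orderOf_y D] at hn
    exact ⟨⟨n, hn⟩, rfl⟩
  obtain ⟨l, hl⟩ := hfin _ h0
  have e : tel y t1 t2 i j k = tel y t1 t2 (l + i') j' k' := by
    rw [← ea, show a = y ^ l.val * b by rw [← hl]; group, eb, tel, tel, ← pow_fin_mul D.y3]
    group
  obtain ⟨-, rfl, rfl⟩ := tel_inj D A.gens e
  have key : ∀ x : G, (x = t1 ∨ x = t1⁻¹ ∨ x = t2 ∨ x = t2⁻¹) →
      ∀ i j k, x = tel y t1 t2 i j k → i = 0 := by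
    have sq : ∀ {x : G}, x * x * x = 1 → x⁻¹ = x ^ 2 := fun {x} hx => by
      rw [pow_two, inv_eq_iff_mul_eq_one, ← mul_assoc, hx]
    rintro x (rfl | rfl | rfl | rfl) i j k e
    · exact (tel_inj D A.gens (e.symm.trans (y_tel D A.gens).2.1)).1
    · exact (tel_inj D A.gens (e.symm.trans (show t1⁻¹ = tel y t1 t2 0 2 0 by
        simp [tel, sq A.gens.o1]))).1
    · exact (tel_inj D A.gens (e.symm.trans (y_tel D A.gens).2.2)).1
    · exact (tel_inj D A.gens (e.symm.trans (show t2⁻¹ = tel y t1 t2 0 0 2 by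
        simp [tel, sq A.gens.o2]))).1
  rw [ea, eb, key a ha' i j k ea, key b hb' i' j k eb]

/-- Pushing a conjugate into the part fixed by `z`. -/
theorem push {a : G} {v : V4} (ha : IsConj y a) (hv : U.Img a v) :
    ∃ n m, U.Act n m ∧ InL m ∧ n * a * n⁻¹ ∈ ([y, y⁻¹, t1, t1⁻¹, t2, t2⁻¹] : List G) := by
  obtain ⟨p, q, r, s, e⟩ := vec_cases v
  obtain ⟨i, h2, h3⟩ := cover p q r s
  rw [← e] at h2 h3
  obtain ⟨n, hn⟩ := U.exists_act (H63.UFour.inL_lMat i)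
  exact ⟨n, _, hn, H63.UFour.inL_lMat i,
    A.six_of_conj ((U.mem_TG (hn.img hv)).mpr ⟨h2, h3⟩) (conj_step ha)⟩

theorem os_cases {a : G} (ha : IsConj y a) {v : V4} (hv : U.Img a v) :
    (v = 0 ∧ (a = y ∨ a = y⁻¹)) ∨ (qA v = 0 ∧ v ≠ 0) := by
  by_cases h0 : v = 0
  · subst h0
    have haT : a ∈ U.TG := (U.mem_TG hv).mpr ⟨rfl, rfl⟩
    exact Or.inl ((A.six_img (A.six_of_conj haT ha) hv).resolve_right fun h => h.2.1 rfl)
  · right
    obtain ⟨n, m, hn, hm, h6⟩ := A.push ha hv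
    obtain ⟨n', -, hn'1, -⟩ := H63.UFour.InL_inv hm
    rcases A.six_img h6 (hn.img hv) with ⟨hz, -⟩ | ⟨hq, -, -⟩
    · exfalso; apply h0
      rw [← H63.UFour.app_one v, ← hn'1, H63.UFour.app_mul, hz, H63.UFour.app_zero]
    · exact ⟨by rwa [H63.UFour.InL_q hm] at hq, h0⟩

theorem os_unique {a b : G} (ha : IsConj y a) (hb : IsConj y b) {v : V4} (hav : U.Img a v)
    (hbv : U.Img b v) (hv : v ≠ 0) : a = b := by
  obtain ⟨n, m, hn, hm, h6⟩ := A.push ha hav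
  have hbT : n * b * n⁻¹ ∈ U.TG := by
    refine (U.mem_TG (hn.img hbv)).mpr ?_
    exact (U.mem_TG (hn.img hav)).mp (by rw [A.TG_eq]; exact (A.fixed_six h6).1)
  obtain ⟨n', -, hn'1, -⟩ := H63.UFour.InL_inv hm
  have := A.six_unique h6 (A.six_of_conj hbT (conj_step hb)) (hn.img hav) (hn.img hbv) fun e =>
    hv (by rw [← H63.UFour.app_one v, ← hn'1, H63.UFour.app_mul, e, H63.UFour.app_zero])
  exact mul_left_cancel (mul_right_cancel this)

theorem y_os : y ∈ OS U := ⟨⟨0, U.y_img⟩, IsConj.refl y⟩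

theorem inv_os : y⁻¹ ∈ OS U := by
  obtain ⟨g, -, hg⟩ := A.move_six (a := y⁻¹) (by simp)
  exact ⟨⟨_, U.y_img.inv⟩, isConj_iff.mpr ⟨g, hg⟩⟩

theorem t1_os : t1 ∈ OS U := by
  obtain ⟨g, -, hg⟩ := A.move_six (a := t1) (by simp)
  exact ⟨A.in1, isConj_iff.mpr ⟨g, hg⟩⟩

/-- A member over each singular vector. -/
theorem os_exists {v : V4} (hq : qA v = 0) (hv : v ≠ 0) :
    ∃ n m, U.Act n m ∧ n * t1 * n⁻¹ ∈ OS U ∧ U.Img (n * t1 * n⁻¹) v := by
  obtain ⟨v1, h1⟩ := A.in1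
  obtain ⟨h0, hq1, -⟩ := A.sing_of (Or.inl rfl) h1
  obtain ⟨m, hm, e⟩ := card_sing_trans hq1 h0 hq hv
  obtain ⟨n, hn⟩ := U.exists_act hm
  exact ⟨n, m, hn, ⟨⟨_, hn.img h1⟩, conj_step A.t1_os.2⟩, e ▸ hn.img h1⟩

theorem move_os {a : G} (ha : a ∈ OS U) :
    ∃ g ∈ Subgroup.normalizer (U.AG : Set G), g * y * g⁻¹ = a := by
  obtain ⟨v, hv⟩ := ha.1
  rcases A.os_cases ha.2 hv with ⟨-, e⟩ | ⟨hq, h0⟩
  · exact A.move_six (by rcases e with rfl | rfl <;> simp)
  · obtain ⟨n, m, hn, hOS, himg⟩ := A.os_exists hq h0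
    obtain ⟨g, hg, e⟩ := A.move_six (a := t1) (by simp)
    refine ⟨n * g, mul_mem (act_norm hn) hg, ?_⟩
    rw [show n * g * y * (n * g)⁻¹ = n * (g * y * g⁻¹) * n⁻¹ by group, e]
    exact A.os_unique hOS.2 ha.2 himg hv h0

theorem card_OS : Nat.card (OS U) = 22 := by
  classical
  have h : ∀ v : {v : V4 // qA v = 0 ∧ v ≠ 0}, ∃ a, a ∈ OS U ∧ U.Img a v := fun v => by
    obtain ⟨n, m, -, h1, h2⟩ := A.os_exists v.2.1 v.2.2
    exact ⟨_, h1, h2⟩
  choose f hf hfi using h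
  have hne : y ≠ y⁻¹ := fun e => D.y_ne (D.eq_one_of_sq (Subgroup.mem_zpowers y)
    (by nth_rewrite 2 [e]; exact mul_inv_cancel y))
  let F : Bool ⊕ {v : V4 // qA v = 0 ∧ v ≠ 0} → OS U := fun p =>
    match p with
    | .inl false => ⟨y, A.y_os⟩
    | .inl true => ⟨y⁻¹, A.inv_os⟩
    | .inr v => ⟨f v, hf v⟩
  have hF : Function.Bijective F := by
    constructor
    · rintro (⟨_ | _⟩ | v) (⟨_ | _⟩ | w) h <;> have h' := congrArg Subtype.val h <;>
        simp only [F] at h'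
      · rfl
      · exact absurd h' hne
      · exact absurd (U.y_img.unique (h'.symm ▸ hfi w)).symm w.2.2
      · exact absurd h'.symm hne
      · rfl
      · exact absurd (((h' ▸ U.y_img.inv).unique (hfi w))).symm (by simpa using w.2.2)
      · exact absurd ((hfi v).unique (h'.symm ▸ U.y_img)) v.2.2
      · exact absurd ((hfi v).unique (h'.symm ▸ U.y_img.inv)) (by simpa using v.2.2)
      · exact congrArg _ (Subtype.ext ((hfi v).unique (h'.symm ▸ hfi w)))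
    · rintro ⟨a, ha⟩
      obtain ⟨v, hv⟩ := ha.1
      rcases A.os_cases ha.2 hv with ⟨-, rfl | rfl⟩ | hs
      · exact ⟨.inl false, rfl⟩
      · exact ⟨.inl true, rfl⟩
      · exact ⟨.inr ⟨v, hs⟩, Subtype.ext (A.os_unique (hf ⟨v, hs⟩).2 ha.2 (hfi ⟨v, hs⟩) hv hs.2)⟩
  rw [← Nat.card_eq_of_bijective F hF, Nat.card_sum, card_sing]
  simp

end Aligned

end H95.SuzM11
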