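import Cfsg.Agent.H95.SuzM11.NormGroup
import Cfsg.Agent.H36.M11Centralizer
import Cfsg.Agent.H36.M11Unique
import Cfsg.Agent.S3413
import Cfsg.Prelude.Def_Transfer
import Cfsg.Prelude.Def_Spor_Mathieu

/-!
# The Sylow subgroup of order `3^7` and the normaliser of type `M11`
-/

set_option autoImplicit false
set_option maxRecDepth 10000

namespace H95.SuzM11

open H87.U43 (V4 M4 InL qA app xV siegel Datum)
open H63.UFour (tr vec_cases)
open H95.SuzY
open H73.Suz (Data Acts)

universe u v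

variable {G : Type u} [Group G] [Finite G] {z : G} {Q : Subgroup G} {co : G → ℕ}
  {y t1 t2 a1 a2 : G} {K : Type v} [Group K] {D : YD z Q co y}

namespace Aligned

variable {U : UData D K} (A : Aligned U t1 t2 a1 a2)

include A

omit A in
/-- the subgroup over the Siegel group -/
def RS (U : UData D K) : Subgroup G where
  carrier := {g | ∃ c d : ZMod 3, U.Act g (siegel c d)}
  one_mem' := ⟨0, 0, siegel_zero.symm ▸ act_one_iff.mpr (one_mem _)⟩
  mul_mem' := fun {g h} ⟨c, d, hg⟩ ⟨c', d', hh⟩ =>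
    ⟨c + c', d + d', siegel_mul c d c' d' ▸ act_mul hg hh⟩
  inv_mem' := fun {g} ⟨c, d, hg⟩ => by
    obtain ⟨n, hn⟩ := U.exists_act (H63.UFour.inL_siegel (-c) (-d))
    refine ⟨-c, -d, ?_⟩
    have hA : n * g ∈ U.AG := act_one_iff.mp (by
      have := act_mul hn hg
      rwa [siegel_mul, neg_add_cancel, neg_add_cancel, siegel_zero] at this)
    rw [show g⁻¹ = (n * g)⁻¹ * n by group, ← one_mul (siegel (-c) (-d))]
    exact act_mul (act_one_iff.mpr (inv_mem hA)) hn

omit A in
theorem AG_le_RS : U.AG ≤ RS U := fun _ ha =>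
  ⟨0, 0, siegel_zero.symm ▸ act_one_iff.mpr ha⟩

omit A in
theorem RS_le : RS U ≤ Subgroup.centralizer ({y} : Set G) := fun _ ⟨_, _, h⟩ => h.1

omit A in
theorem card_RS : Nat.card (RS U) = 3 ^ 7 := by
  classical
  have h : ∀ p : ZMod 3 × ZMod 3, ∃ n, U.Act n (siegel p.1 p.2) := fun p =>
    U.exists_act (H63.UFour.inL_siegel _ _)
  choose f hf using h
  let F : U.AG × (ZMod 3 × ZMod 3) → RS U := fun p =>
    ⟨p.1 * f p.2, (RS U).mul_mem (AG_le_RS p.1.2) ⟨_, _, hf p.2⟩⟩
  have hinj : ∀ c d c' d' : ZMod 3, siegel c d = siegel c' d' → (c, d) = (c', d') := by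
    decide +kernel
  have hact : ∀ (a : U.AG) (p : ZMod 3 × ZMod 3), U.Act ((a : G) * f p) (siegel p.1 p.2) :=
    fun a p => by simpa using act_mul (act_one_iff.mpr a.2) (hf p)
  have hF : Function.Bijective F := by
    constructor
    · rintro ⟨a, p⟩ ⟨a', p'⟩ h
      have h' : (a : G) * f p = a' * f p' := congrArg Subtype.val h
      have e : p = p' := hinj _ _ _ _ (act_unique (hact a p) (h' ▸ hact a' p'))
      subst e
      exact Prod.ext (Subtype.ext (mul_right_cancel h')) rfl
    · rintro ⟨g, c, d, hg⟩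
      refine ⟨(⟨g * (f (c, d))⁻¹, act_one_iff.mp ?_⟩, (c, d)), Subtype.ext (inv_mul_cancel_right g _)⟩
      obtain ⟨n, hn⟩ := U.exists_act (H63.UFour.inL_siegel (-c) (-d))
      have hA : n * f (c, d) ∈ U.AG := act_one_iff.mp (by
        have := act_mul hn (hf (c, d))
        rwa [siegel_mul, neg_add_cancel, neg_add_cancel, siegel_zero] at this)
      rw [show g * (f (c, d))⁻¹ = g * ((n * f (c, d))⁻¹ * n) by group,
        show (1 : M4) = siegel c d * (1 * siegel (-c) (-d)) by
          rw [one_mul, siegel_mul, add_neg_cancel, add_neg_cancel, siegel_zero]]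
      exact act_mul hg (act_mul (act_one_iff.mpr (inv_mem hA)) hn)
  rw [← Nat.card_eq_of_bijective F hF, Nat.card_prod, U.card_AG, Nat.card_prod]
  simp

omit A in
theorem card_cent_y (U : UData D K) : Nat.card (Subgroup.centralizer ({y} : Set G)) = 3 * 3265920 := by
  have hK : Nat.card K = 3265920 := by
    rw [← H63.UFour.card_G0 U.Da, U.top, Subgroup.card_top]
  rw [Subgroup.card_eq_card_quotient_mul_card_subgroup U.π.ker,
    Nat.card_congr (QuotientGroup.quotientKerEquivOfSurjective U.π U.surj).toEquiv, hK]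
  have : Nat.card U.π.ker = 3 := by
    rw [← UData.orderOf_y D, ← Nat.card_zpowers]
    exact Nat.card_congr
      { toFun := fun c => ⟨c.1.1, (U.ker _).mp c.2⟩
        invFun := fun r => ⟨⟨r.1, (U.img_zero.mpr r.2).1⟩, (U.ker ⟨r.1, (U.img_zero.mpr r.2).1⟩).mpr r.2⟩
        left_inv := fun _ => rfl
        right_inv := fun _ => rfl }
  rw [this]

/-- A `3`-element normalising the subgroup centralises `y`. -/
theorem norm_RS_cent {g : G} (hg : g ∈ Subgroup.normalizer (RS U : Set G))
    (hodd : Odd (orderOf g)) : Commute g y := by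
  obtain ⟨n, m, hn, ha0, hi0⟩ := A.os_exists (v := xV) H63.UFour.sing_x.1 H63.UFour.sing_x.2
  obtain ⟨a, had⟩ : ∃ a, a = n * t1 * n⁻¹ := ⟨_, rfl⟩
  rw [← had] at ha0 hi0
  have hyc : ∀ r ∈ RS U, Commute r y := fun r hr => UData.hyc.mp (RS_le hr)
  have hainv : IsConj y a⁻¹ := by
    obtain ⟨c, hc⟩ := isConj_iff.mp ha0.2
    have h1 : IsConj y⁻¹ a⁻¹ := isConj_iff.mpr ⟨c, by rw [← hc]; group⟩
    exact A.inv_os.2.trans h1
  have key : ∀ h ∈ Subgroup.normalizer (RS U : Set G),
      h * y * h⁻¹ = y ∨ h * y * h⁻¹ = y⁻¹ ∨ h * y * h⁻¹ = a ∨ h * y * h⁻¹ = a⁻¹ := by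
    intro h hh
    set b := h * y * h⁻¹ with hb
    have hbR : b ∈ RS U :=
      (Subgroup.mem_normalizer_iff.mp hh y).mp (AG_le_RS A.y_os.1)
    have hcb : ∀ r ∈ RS U, Commute r b := by
      intro r hr
      have := hyc _ ((Subgroup.mem_normalizer_iff''.mp hh r).mp hr)
      show _ = _
      calc r * b = h * (h⁻¹ * r * h * y) * h⁻¹ := by rw [hb]; group
        _ = h * (y * (h⁻¹ * r * h)) * h⁻¹ := by rw [this.eq]
        _ = b * r := by rw [hb]; group
    have hbA : b ∈ U.AG := by
      have : b ∈ Subgroup.centralizer (U.AG : Set G) :=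
        Subgroup.mem_centralizer_iff.mpr fun c hc => (hcb c (AG_le_RS hc)).eq
      rwa [U.centralizer_AG] at this
    obtain ⟨v, hv⟩ := hbA
    have hconj : IsConj y b := isConj_iff.mpr ⟨h, rfl⟩
    rcases A.os_cases hconj hv with ⟨-, e⟩ | ⟨-, h0⟩
    · rcases e with e | e <;> simp [e]
    · have hfix : ∀ c d : ZMod 3, app (siegel c d) v = v := by
        intro c d
        obtain ⟨k, hk⟩ := U.exists_act (H63.UFour.inL_siegel c d)
        have := hk.img hv
        rw [(hcb k ⟨c, d, hk⟩).eq, mul_inv_cancel_right] at this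
        exact this.unique hv
      obtain ⟨p, q, r, s, e⟩ := vec_cases v
      obtain ⟨k, hk⟩ := siegel_fixed_fin p q r s (e ▸ hfix 1 0) (e ▸ hfix 0 1)
      rw [← e] at hk
      have hk3 : k = 0 ∨ k = 1 ∨ k = -1 :=
        (show ∀ l : ZMod 3, l = 0 ∨ l = 1 ∨ l = -1 by decide) k
      rcases hk3 with rfl | rfl | rfl
      · exact absurd (by rw [hk, zero_smul]) h0
      · rw [one_smul] at hk
        exact Or.inr (Or.inr (Or.inl (A.os_unique hconj ha0.2 hv (hk ▸ hi0) h0)))
      · rw [neg_one_smul] at hk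
        exact Or.inr (Or.inr (Or.inr (A.os_unique hconj hainv hv (hk ▸ hi0.inv) h0)))
  have hflip : ∀ {h x w : G}, h * x * h⁻¹ = w → h * x⁻¹ * h⁻¹ = w⁻¹ := fun {h x w} e => by
    rw [← e]; group
  have h4 : g ^ 4 * y * (g ^ 4)⁻¹ = y := by
    have two : ∀ w, g * y * g⁻¹ = w → g * w * g⁻¹ = g ^ 2 * y * (g ^ 2)⁻¹ := by
      intro w e; rw [← e, pow_two]; group
    have four : g ^ 2 * y * (g ^ 2)⁻¹ = y ∨ g ^ 2 * y * (g ^ 2)⁻¹ = y⁻¹ →
        g ^ 4 * y * (g ^ 4)⁻¹ = y := by
      intro h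
      rw [show g ^ 4 * y * (g ^ 4)⁻¹ = g ^ 2 * (g ^ 2 * y * (g ^ 2)⁻¹) * (g ^ 2)⁻¹ by
        rw [show (4 : ℕ) = 2 + 2 from rfl, pow_add]; group]
      rcases h with h | h
      · rw [h, h]
      · rw [h, hflip h, inv_inv]
    refine four ?_
    rcases key g hg with h | h | h | h
    · left; rw [← two y h, h]
    · left; rw [← two _ h, hflip h, inv_inv]
    · rcases key (g ^ 2) (pow_mem hg 2) with k | k | k | k
      · exact Or.inl k
      · exact Or.inr k
      · left
        rw [← two a h] at k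
        have : a = y := mul_left_cancel (mul_right_cancel (k.trans h.symm))
        rw [← two a h, this, h, this]
      · left
        rw [← two a h] at k
        have : a = y⁻¹ := mul_left_cancel (mul_right_cancel (k.trans (hflip h).symm))
        rw [← two a h, k, this, inv_inv]
    · rcases key (g ^ 2) (pow_mem hg 2) with k | k | k | k
      · exact Or.inl k
      · exact Or.inr k
      · left
        rw [← two a⁻¹ h] at k
        have e2 := (hflip h).trans (inv_inv a)
        have : a⁻¹ = y⁻¹ := mul_left_cancel (mul_right_cancel (k.trans e2.symm))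
        rw [← two a⁻¹ h, k, inv_inj.mp this]
      · left
        rw [← two a⁻¹ h] at k
        have : a⁻¹ = y := mul_left_cancel (mul_right_cancel (k.trans h.symm))
        rw [← two a⁻¹ h, k, this]
  have hc4 : Commute (g ^ 4) y := mul_inv_eq_iff_eq_mul.mp h4
  obtain ⟨j, hj⟩ := exists_pow_eq_self_of_coprime (show Nat.Coprime 4 (orderOf g) from
    (Nat.Coprime.pow_left 2 (Nat.coprime_two_left.mpr hodd) : Nat.Coprime (2 ^ 2) (orderOf g)))
  rw [← hj]
  exact hc4.pow_left j

/-- It is a Sylow subgroup. -/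
theorem RS_sylow (S : Subgroup G) (hS : IsPGroup 3 S) (hle : RS U ≤ S) : S = RS U := by
  haveI := Fact.mk Nat.prime_three
  by_contra hne
  have : Group.IsNilpotent S := hS.isNilpotent
  set R' := (RS U).subgroupOf S with hR'
  have hlt : R' < ⊤ := lt_of_le_of_ne le_top fun h =>
    hne (le_antisymm (Subgroup.subgroupOf_eq_top.mp h) hle)
  obtain ⟨g, hg, hgR⟩ := SetLike.exists_of_lt (normalizerCondition_of_isNilpotent (G := S) R' hlt)
  have hgN : (g : G) ∈ Subgroup.normalizer (RS U : Set G) := by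
    refine UData.mem_normalizer_of fun r hr => ?_
    exact (Subgroup.mem_normalizer_iff.mp hg ⟨r, hle hr⟩).mp hr
  obtain ⟨k, hk⟩ := hS g
  have hod : Odd (orderOf (g : G)) := by
    have h1 : orderOf g ∣ 3 ^ k := orderOf_dvd_of_pow_eq_one hk
    rw [Subgroup.orderOf_coe]
    exact Odd.of_dvd_nat (Odd.pow (by decide)) h1
  have hgC := UData.hyc.mpr (A.norm_RS_cent hgN hod)
  let S' := S ⊓ Subgroup.centralizer ({y} : Set G)
  have hS' : IsPGroup 3 S' := hS.to_le inf_le_left
  obtain ⟨n, hn⟩ := hS'.exists_card_eq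
  have hd := Subgroup.card_dvd_of_le (inf_le_right : S' ≤ Subgroup.centralizer ({y} : Set G))
  rw [hn, card_cent_y U] at hd
  have hn7 : n ≤ 7 := by
    by_contra h
    have : 3 ^ 8 ∣ 3 * 3265920 := (pow_dvd_pow 3 (by omega)).trans hd
    norm_num at this
  have hle' : RS U ≤ S' := le_inf hle RS_le
  have heq : RS U = S' := Subgroup.eq_of_le_of_card_ge hle' (by
    rw [card_RS, hn]; exact Nat.pow_le_pow_right (by norm_num) hn7)
  exact hgR (show (g : G) ∈ RS U from heq.symm ▸ (⟨g.2, hgC⟩ : (g : G) ∈ S'))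

omit A in
theorem RS_isPGroup : IsPGroup 3 (RS U) := IsPGroup.of_card (n := 7) card_RS

/-- The conclusion, at the level of the coordinates. -/
theorem main (P : Sylow 3 ↥(Subgroup.normalizer ((Subgroup.zpowers y : Subgroup G) : Set G))) :
    ¬ 3 ∣ ((P : Subgroup ↥(Subgroup.normalizer ((Subgroup.zpowers y : Subgroup G) : Set G))).map
        (Subgroup.subtype _)).index ∧
      ∃ B : Subgroup G,
        B ≤ (P : Subgroup ↥(Subgroup.normalizer ((Subgroup.zpowers y : Subgroup G) : Set G))).map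
          (Subgroup.subtype _) ∧
        Cfsg.IsElementaryAbelian 3 B ∧ Nat.card B = 3 ^ 5 ∧
        Subgroup.centralizer (B : Set G) = B ∧
        ∃ _ : (B.subgroupOf (Subgroup.normalizer (B : Set G))).Normal,
          Cfsg.Spor.IsoM11 (↥(Subgroup.normalizer (B : Set G)) ⧸
            B.subgroupOf (Subgroup.normalizer (B : Set G))) := by
  haveI := Fact.mk Nat.prime_three
  let NX := Subgroup.normalizer ((Subgroup.zpowers y : Subgroup G) : Set G)
  obtain ⟨T, hT⟩ := (RS_isPGroup (U := U)).exists_le_sylow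
  have hTR : (T : Subgroup G) = RS U := A.RS_sylow T T.isPGroup' hT
  have hCN : Subgroup.centralizer ({y} : Set G) ≤ NX := by
    have e : Subgroup.centralizer ((Subgroup.zpowers y : Subgroup G) : Set G) =
        Subgroup.centralizer ({y} : Set G) := by
      rw [Subgroup.zpowers_eq_closure, Subgroup.centralizer_closure]
    rw [← e]; exact Subgroup.centralizer_le_normalizer _
  have hTN : (T : Subgroup G) ≤ NX := hTR ▸ RS_le.trans hCN
  obtain ⟨g, hg⟩ := MulAction.exists_smul_eq NX (T.subtype hTN) P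
  set φ := MulAut.conj (g : G)
  have hPmap : (P : Subgroup NX).map NX.subtype = (T : Subgroup G).map φ.toMonoidHom := by
    rw [← hg, Sylow.coe_subgroup_smul]
    ext x
    constructor
    · rintro ⟨_, ⟨r, hr, rfl⟩, rfl⟩
      exact ⟨(r : G), hr, by simp [φ, MulAut.conj_apply]⟩
    · rintro ⟨r, hr, rfl⟩
      exact ⟨_, ⟨⟨r, hTN hr⟩, hr, rfl⟩, by simp [φ, MulAut.conj_apply]⟩
  erw [hPmap]
  refine ⟨?_, U.AG.map φ.toMonoidHom, ?_, ?_, ?_, ?_, ?_⟩
  · rw [show ((T : Subgroup G).map φ.toMonoidHom) = ((T : Subgroup G).map (φ : G →* G)) from rfl,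
      Subgroup.index_map_equiv]
    exact T.not_dvd_index
  · exact Subgroup.map_mono (hTR ▸ AG_le_RS)
  · obtain ⟨hab, hexp⟩ := U.elementary
    constructor
    · refine ⟨⟨?_⟩⟩
      rintro ⟨_, a, ha, rfl⟩ ⟨_, b, hb, rfl⟩
      apply Subtype.ext
      show φ a * φ b = φ b * φ a
      rw [← map_mul, (hab a ha b hb).eq, map_mul]
    · rintro x ⟨a, ha, rfl⟩
      show φ a ^ 3 = 1
      rw [← map_pow, hexp a ha, map_one]
  · rw [← Nat.card_congr (U.AG.equivMapOfInjective _ φ.injective).toEquiv, U.card_AG]; rfl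
  · ext x
    rw [Subgroup.mem_centralizer_iff]
    constructor
    · intro h
      refine ⟨φ.symm x, ?_, φ.apply_symm_apply x⟩
      rw [SetLike.mem_coe, ← U.centralizer_AG]
      refine Subgroup.mem_centralizer_iff.mpr fun a ha => φ.injective ?_
      rw [map_mul, map_mul, φ.apply_symm_apply]
      exact h _ ⟨a, ha, rfl⟩
    · rintro ⟨a, ha, rfl⟩ _ ⟨b, hb, rfl⟩
      show φ b * φ a = φ a * φ b
      rw [← map_mul, (U.elementary.1 b hb a ha).eq, map_mul]
  · refine ⟨Subgroup.normal_in_normalizer, ?_⟩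
    obtain ⟨hs, hc⟩ := A.iso_m11
    haveI := H36.M11Cent.isSimpleGroup_M11
    obtain ⟨e⟩ := H36.M11.iso_of_order_7920 hc H87.natCard_M11
    have hmap : (Subgroup.normalizer (U.AG : Set G)).map φ.toMonoidHom =
        Subgroup.normalizer ((U.AG.map φ.toMonoidHom : Subgroup G) : Set G) :=
      U.AG.map_equiv_normalizer_eq φ
    let ψ : Subgroup.normalizer (U.AG : Set G) ≃*
        Subgroup.normalizer ((U.AG.map φ.toMonoidHom : Subgroup G) : Set G) :=
      ((Subgroup.normalizer (U.AG : Set G)).equivMapOfInjective φ.toMonoidHom φ.injective).trans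
        (MulEquiv.subgroupCongr hmap)
    have hψ : (U.AG.subgroupOf (Subgroup.normalizer (U.AG : Set G))).map ψ.toMonoidHom =
        (U.AG.map φ.toMonoidHom).subgroupOf
          (Subgroup.normalizer ((U.AG.map φ.toMonoidHom : Subgroup G) : Set G)) := by
      ext x
      rw [Subgroup.mem_subgroupOf]
      constructor
      · rintro ⟨a, ha, rfl⟩; exact ⟨a.1, ha, rfl⟩
      · intro hx
        refine ⟨ψ.symm x, ?_, ψ.apply_symm_apply x⟩
        obtain ⟨a, ha, e⟩ := hx
        show ((ψ.symm x : _) : G) ∈ U.AG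
        have h1 : φ ((ψ.symm x : _) : G) = (x : G) := congrArg Subtype.val (ψ.apply_symm_apply x)
        rwa [φ.injective (h1.trans e.symm)]
    exact ⟨((QuotientGroup.congr _ _ ψ hψ).symm).trans e⟩

end Aligned

end H95.SuzM11
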